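/-
Radical elements of point stabilisers in the symplectic group, characteristic two.
-/
import Cfsg.Agent.Lib.Classical.SymplecticCount

set_option autoImplicit false
set_option linter.unusedSectionVars false

namespace Cfsg.Agent.Classical.SpRad

open Module

universe u v

variable {F : Type u} [Field F] [CharP F 2] {V : Type v} [AddCommGroup V] [Module F V]
  {B : V →ₗ[F] V →ₗ[F] F}

include F in
variable (F) in
theorem add_self_vec (x : V) : x + x = 0 := by
  rw [← two_smul F x, CharTwo.two_eq_zero, zero_smul]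

theorem symm (hB : SpCount.IsAltND B) (x y : V) : B x y = B y x := by
  rw [hB.swap x y, CharTwo.neg_eq]

/-- The map with data `a`, `v`, `t`. -/
def rmap (B : V →ₗ[F] V →ₗ[F] F) (a v : V) (t : F) (x : V) : V :=
  x + B x a • v + B x v • a + (t * B x a) • a

/-- `L` contains the radical element with data `a`, `v`, `t`. -/
def In (B : V →ₗ[F] V →ₗ[F] F) (L : Subgroup (V ≃ₗ[F] V)) (a v : V) (t : F) : Prop :=
  ∃ g ∈ L, ∀ x, g x = rmap B a v t x

variable {L : Subgroup (V ≃ₗ[F] V)}

theorem rmap_comp (hB : SpCount.IsAltND B) {a v w : V} (hv : B a v = 0) (hw : B a w = 0) (t s : F) (x : V) :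
    rmap B a v t (rmap B a w s x) = rmap B a (v + w) (t + s + B v w) x := by
  have hwa : B w a = 0 := by rw [symm hB]; exact hw
  have hwv : B w v = B v w := symm hB w v
  simp only [rmap, map_add, map_smul, LinearMap.add_apply, LinearMap.smul_apply, smul_eq_mul, hB.self, hv, hwa, hwv]
  match_scalars <;> ring

theorem In.mul (hB : SpCount.IsAltND B) {a v w : V} {t s : F} (h : In B L a v t) (h' : In B L a w s)
    (hv : B a v = 0) (hw : B a w = 0) : In B L a (v + w) (t + s + B v w) := by
  obtain ⟨g, hg, hg'⟩ := h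
  obtain ⟨k, hk, hk'⟩ := h'
  exact ⟨g * k, mul_mem hg hk, fun x => by rw [LinearEquiv.mul_apply, hk', hg', rmap_comp hB hv hw]⟩

theorem rmap_shift (a v : V) (r t : F) (x : V) : rmap B a (v + r • a) t x = rmap B a v t x := by
  simp only [rmap, map_add, map_smul, smul_eq_mul]
  linear_combination (norm := module) add_self_vec F ((r * B x a) • a)

theorem in_shift_iff {a v : V} {r t : F} : In B L a (v + r • a) t ↔ In B L a v t := by
  simp only [In, rmap_shift]

theorem rmap_scale (a v : V) (κ t : F) (x : V) : rmap B (κ • a) v t x = rmap B a (κ • v) (κ * κ * t) x := by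
  simp only [rmap, map_smul, smul_eq_mul]
  match_scalars <;> ring

theorem in_scale_iff {a v : V} {κ t : F} : In B L (κ • a) v t ↔ In B L a (κ • v) (κ * κ * t) := by
  simp only [In, rmap_scale]

theorem In.conj {a v : V} {t : F} (h : In B L a v t) {g : V ≃ₗ[F] V} (hg : g ∈ L)
    (hgB : ∀ x y, B (g x) (g y) = B x y) : In B L (g a) (g v) t := by
  obtain ⟨k, hk, hk'⟩ := h
  refine ⟨g * k * g⁻¹, mul_mem (mul_mem hg hk) (inv_mem hg), fun x => ?_⟩
  obtain ⟨y, rfl⟩ := g.surjective x
  rw [LinearEquiv.mul_apply, LinearEquiv.mul_apply, show g⁻¹ (g y) = y from g.symm_apply_apply y, hk']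
  simp only [rmap, map_add, map_smul, hgB]

/-- The image of a point under a radical element. -/
theorem In.moves {a v : V} {t : F} (h : In B L a v t) (x : V) :
    ∃ g ∈ L, g x = x + B x a • v + B x v • a + (t * B x a) • a := by
  obtain ⟨g, hg, hg'⟩ := h
  exact ⟨g, hg, hg' x⟩

/-- `a` carries a radical section without gaps. -/
def Full (B : V →ₗ[F] V →ₗ[F] F) (L : Subgroup (V ≃ₗ[F] V)) (a : V) : Prop :=
  ∃ f : V → F, (∀ v w, B a v = 0 → B a w = 0 → f (v + w) = f v + f w + B v w) ∧ (∀ r : F, f (r • a) = 0) ∧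
    ∀ v, B a v = 0 → In B L a v (f v)

theorem Full.conj {a : V} (h : Full B L a) {g : V ≃ₗ[F] V} (hg : g ∈ L)
    (hgB : ∀ x y, B (g x) (g y) = B x y) : Full B L (g a) := by
  obtain ⟨f, h1, h2, h3⟩ := h
  have hp : ∀ v, B (g a) v = 0 → B a (g.symm v) = 0 := fun v hv => by
    rw [← hgB, g.apply_symm_apply]; exact hv
  refine ⟨fun v => f (g.symm v), fun v w hv hw => ?_, fun r => ?_, fun v hv => ?_⟩
  · dsimp only
    rw [map_add, h1 _ _ (hp v hv) (hp w hw), ← hgB (g.symm v), g.apply_symm_apply, g.apply_symm_apply]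
  · dsimp only
    rw [map_smul, g.symm_apply_apply, h2]
  · have := (h3 _ (hp v hv)).conj hg hgB
    rwa [g.apply_symm_apply] at this

theorem Full.smul {a : V} (h : Full B L a) {κ : F} (hκ : κ ≠ 0) : Full B L (κ • a) := by
  obtain ⟨f, h1, h2, h3⟩ := h
  have hp : ∀ v, B (κ • a) v = 0 → B a (κ • v) = 0 := fun v hv => by
    rw [map_smul]
    rw [map_smul, LinearMap.smul_apply, smul_eq_mul] at hv
    rw [(mul_eq_zero.1 hv).resolve_left hκ, smul_zero]
  refine ⟨fun v => f (κ • v) / (κ * κ), fun v w hv hw => ?_, fun r => ?_, fun v hv => ?_⟩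
  · simp only [smul_add, h1 _ _ (hp v hv) (hp w hw), map_smul, LinearMap.smul_apply, smul_eq_mul]
    field_simp
  · simp only [smul_smul, h2, zero_div]
  · rw [in_scale_iff, mul_div_cancel₀ _ (mul_ne_zero hκ hκ)]
    exact h3 _ (hp v hv)

theorem Full.exists_in {a : V} (h : Full B L a) {v : V} (hv : B a v = 0) : ∃ t, In B L a v t := by
  obtain ⟨f, -, -, h3⟩ := h
  exact ⟨_, h3 v hv⟩

/-- A vector orthogonal to a subspace, pairing to one with a vector outside it. -/
theorem exists_sep [FiniteDimensional F V] (hB : SpCount.IsAltND B) {U : Submodule F V} {x : V} (hx : x ∉ U)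
    (c : F) : ∃ y, (∀ u ∈ U, B y u = 0) ∧ B y x = c := by
  obtain ⟨φ, hφ, hker⟩ := Submodule.exists_le_ker_of_notMem hx
  have hinj : Function.Injective B := by
    intro v w h
    refine sub_eq_zero.1 (hB.nondeg _ fun z => ?_)
    rw [map_sub, h, sub_self, LinearMap.zero_apply]
  have hfr : finrank F V = finrank F (V →ₗ[F] F) := (Subspace.dual_finrank_eq).symm
  obtain ⟨y, hy⟩ := (LinearMap.injective_iff_surjective_of_finrank_eq_finrank hfr).1 hinj ((c / φ x) • φ)
  refine ⟨y, fun u hu => ?_, ?_⟩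
  · rw [hy, LinearMap.smul_apply, LinearMap.mem_ker.1 (hker hu), smul_zero]
  · rw [hy, LinearMap.smul_apply, smul_eq_mul, div_mul_cancel₀ _ hφ]

end Cfsg.Agent.Classical.SpRad
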