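/-
Two perpendicular points with radical sections.
-/
import Cfsg.Agent.Lib.Classical.SpRadical.Basic

set_option autoImplicit false
set_option linter.unusedSectionVars false

namespace Cfsg.Agent.Classical.SpRad

open Module

universe u v

variable {F : Type u} [Field F] [CharP F 2] {V : Type v} [AddCommGroup V] [Module F V]
  {B : V →ₗ[F] V →ₗ[F] F} {L : Subgroup (V ≃ₗ[F] V)}

/-- The commutator of two radical elements at perpendicular points. -/
theorem pair_core (hB : SpCount.IsAltND B) {a c u v : V} {t γ : F} (hL : ∀ g ∈ L, ∀ x y, B (g x) (g y) = B x y)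
    (hac : B a c = 0) (hua : B u a = 0) (hv : B a v = 0) (ha : In B L a v t) (hc : In B L c u γ) :
    In B L a (B v c • u + (B v u + γ * B v c) • c) (γ * B v c * B v c) := by
  obtain ⟨g, hg, hg'⟩ := hc
  have hga : g a = a := by
    rw [hg', rmap, hac, symm hB a u, hua]
    simp
  have h1 := ha.conj hg (hL g hg)
  rw [hga] at h1
  have hgv : B a (g v) = 0 := by
    have := hL g hg a v
    rwa [hga, hv] at this
  have h2 := h1.mul hB ha hgv hv
  have e1 : g v + v = B v c • u + (B v u + γ * B v c) • c := by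
    rw [hg', rmap]
    linear_combination (norm := module) add_self_vec F v
  have e2 : t + t + B (g v) v = γ * B v c * B v c := by
    rw [CharTwo.add_self_eq_zero, zero_add, hg', rmap]
    simp only [map_add, map_smul, LinearMap.add_apply, LinearMap.smul_apply, smul_eq_mul, hB.self,
      symm hB c v, symm hB u v]
    linear_combination (B v u * B v c) * (CharTwo.two_eq_zero (R := F))
  rwa [e1, e2] at h2

variable [Finite V]

/-- The special case of a radical element at `c` pointing to `a`. -/
theorem pair_line (hB : SpCount.IsAltND B) {a c : V} (hL : ∀ g ∈ L, ∀ x y, B (g x) (g y) = B x y)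
    (hac : B a c = 0) (hind : c ∉ F ∙ a) (ha : Full B L a) {ε γ : F} (hc : In B L c (ε • a) γ) (β : F) :
    In B L a ((γ * β) • c) (γ * β * β) := by
  haveI : FiniteDimensional F V := Module.Finite.of_finite
  obtain ⟨v, hv, hvc⟩ := exists_sep hB hind β
  have hva : B v a = 0 := hv a (Submodule.mem_span_singleton_self a)
  have hav : B a v = 0 := by rw [symm hB]; exact hva
  obtain ⟨t, ht⟩ := ha.exists_in hav
  have h := pair_core hB hL hac (by rw [map_smul, LinearMap.smul_apply, hB.self, smul_zero]) hav ht hc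
  rw [hvc, map_smul, hva, smul_zero, zero_add, smul_smul, add_comm, in_shift_iff] at h
  exact h

variable [Finite F]

/-- A non-zero value on the line forces the whole transvection group, more than two field elements. -/
theorem pair_trans (hB : SpCount.IsAltND B) (hq : Nat.card F ≠ 2) {a c : V}
    (hL : ∀ g ∈ L, ∀ x y, B (g x) (g y) = B x y) (hac : B a c = 0) (hind : c ∉ F ∙ a) (hind' : a ∉ F ∙ c)
    (ha : Full B L a) (hc : Full B L c) {ε γ : F} (hγ : γ ≠ 0) (h : In B L c (ε • a) γ) (t : F) :
    In B L a 0 t := by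
  have hca : B c a = 0 := by rw [symm hB]; exact hac
  haveI : Fintype F := Fintype.ofFinite F
  have hs : ∀ s : F, s ≠ 0 → ∃ ε' : F, In B L c (ε' • a) s := by
    intro s hs0
    obtain ⟨y, hy⟩ : ∃ y, y * y = s * γ := by
      haveI : Fact (Nat.Prime 2) := ⟨Nat.prime_two⟩
      obtain ⟨r, hr⟩ := FiniteField.isSquare_of_char_two (ringChar.eq F 2) (s * γ)
      exact ⟨r, hr.symm⟩
    have h1 := pair_line hB hL hac hind ha h (y / γ)
    rw [mul_div_cancel₀ _ hγ, ← mul_div_assoc, hy, mul_div_assoc, div_self hγ, mul_one] at h1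
    have h2 := pair_line hB hL hca hind' hc h1 1
    rw [mul_one, mul_one] at h2
    exact ⟨_, h2⟩
  obtain ⟨β, hβ0, hβ1⟩ : ∃ β : F, β ≠ 0 ∧ β ≠ 1 := by
    by_contra hcon
    push Not at hcon
    refine hq (Nat.card_eq_two_iff.2 ⟨0, 1, zero_ne_one, Set.eq_univ_of_forall fun x => ?_⟩)
    rw [Set.mem_insert_iff, Set.mem_singleton_iff]
    exact or_iff_not_imp_left.2 (hcon x)
  by_cases ht : t = 0
  · subst ht
    exact ⟨1, one_mem L, fun x => by simp [rmap]⟩
  have hb : β + 1 ≠ 0 := fun e => hβ1 (CharTwo.add_eq_zero.1 e)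
  obtain ⟨y, hy⟩ : ∃ y, y = t / (β + 1) := ⟨_, rfl⟩
  have hy0 : y ≠ 0 := hy ▸ div_ne_zero ht hb
  obtain ⟨ε₁, h1⟩ := hs y hy0
  obtain ⟨ε₂, h2⟩ := hs (y / β) (div_ne_zero hy0 hβ0)
  have e1 := pair_line hB hL hac hind ha h1 1
  have e2 := pair_line hB hL hac hind ha h2 β
  rw [mul_one, mul_one] at e1
  rw [div_mul_cancel₀ _ hβ0] at e2
  have e3 := e2.mul hB e1 (by rw [map_smul, hac, smul_zero]) (by rw [map_smul, hac, smul_zero])
  rw [add_self_vec F, map_smul, map_smul, LinearMap.smul_apply, hB.self, smul_zero, smul_zero, add_zero,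
    show y * β + y = t by rw [hy]; field_simp] at e3
  exact e3

/-- No transvection at a point with a radical section. -/
def NoTrans (B : V →ₗ[F] V →ₗ[F] F) (L : Subgroup (V ≃ₗ[F] V)) : Prop :=
  ∀ a, a ≠ 0 → Full B L a → ∀ t, In B L a 0 t → t = 0

/-- Perpendicular points with radical sections see each other with value zero. -/
def Good (B : V →ₗ[F] V →ₗ[F] F) (L : Subgroup (V ≃ₗ[F] V)) : Prop :=
  ∀ a c, Full B L a → Full B L c → B a c = 0 → c ∉ F ∙ a → a ∉ F ∙ c → ∀ y : F, In B L a (y • c) 0

theorem in_unique (hB : SpCount.IsAltND B) (hN : NoTrans B L) {a v : V} (ha0 : a ≠ 0) (ha : Full B L a)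
    (hv : B a v = 0) {t s : F} (h : In B L a v t) (h' : In B L a v s) : t = s := by
  have := h.mul hB h' hv hv
  rw [add_self_vec F, hB.self, add_zero] at this
  exact CharTwo.add_eq_zero.1 (hN a ha0 ha _ this)

theorem good_of_card (hB : SpCount.IsAltND B) (hL : ∀ g ∈ L, ∀ x y, B (g x) (g y) = B x y) (hN : NoTrans B L)
    (hq : Nat.card F ≠ 2) : Good B L := by
  intro a c ha hc hac hind hind' y
  obtain ⟨t, ht⟩ := ha.exists_in (v := y • c) (by rw [map_smul, hac, smul_zero])
  by_cases ht0 : t = 0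
  · rwa [ht0] at ht
  have hc0 : c ≠ 0 := fun e => hind (e ▸ Submodule.zero_mem _)
  exact absurd (hN c hc0 hc 1 (pair_trans hB hq hL (by rw [symm hB]; exact hac) hind' hind hc ha ht0 ht 1))
    one_ne_zero

theorem good_of_dim (hB : SpCount.IsAltND B) (hL : ∀ g ∈ L, ∀ x y, B (g x) (g y) = B x y)
    (hn : 6 ≤ finrank F V) : Good B L := by
  intro a c ha hc hac hind hind' y
  haveI : FiniteDimensional F V := Module.Finite.of_finite
  obtain ⟨U, hU⟩ : ∃ U : Submodule F V, U = Submodule.span F {a, c} := ⟨_, rfl⟩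
  have hUd : finrank F U ≤ 2 := by
    classical
    have h := finrank_span_finset_le_card (R := F) ({a, c} : Finset V)
    rw [Finset.coe_pair] at h
    rw [hU]
    exact h.trans Finset.card_le_two
  obtain ⟨u, hua, huc, hu⟩ : ∃ u, B u a = 0 ∧ B u c = 0 ∧ u ∉ U := by
    by_contra hcon
    push Not at hcon
    let φ : V →ₗ[F] F × F := (B.flip a).prod (B.flip c)
    have hk : LinearMap.ker φ ≤ U := fun u hu => by
      have := LinearMap.mem_ker.1 hu
      exact hcon u (congrArg Prod.fst this) (congrArg Prod.snd this)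
    have h1 := Submodule.finrank_mono hk
    have h2 := φ.finrank_range_add_finrank_ker
    have h3 := Submodule.finrank_le (LinearMap.range φ)
    rw [Module.finrank_prod, Module.finrank_self] at h3
    omega
  obtain ⟨v, hv, hvu⟩ := exists_sep hB hu y
  have hva : B v a = 0 := hv a (hU ▸ Submodule.subset_span (Set.mem_insert _ _))
  have hvc : B v c = 0 := hv c (hU ▸ Submodule.subset_span (Set.mem_insert_of_mem _ rfl))
  obtain ⟨γ, hγ⟩ := hc.exists_in (v := u) (by rw [symm hB]; exact huc)
  have hav : B a v = 0 := by rw [symm hB]; exact hva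
  obtain ⟨t, ht⟩ := ha.exists_in hav
  have h := pair_core hB hL hac hua hav ht hγ
  rw [hvc, hvu, mul_zero, add_zero, zero_smul, zero_add, zero_mul] at h
  exact h

end Cfsg.Agent.Classical.SpRad
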