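/-
Functions with a symplectic polar over a field of characteristic two take every value; a rigidity lemma.
-/
import Cfsg.Agent.Lib.Small.ArfTwo
import Cfsg.Agent.Lib.Classical.SymplecticCount

set_option autoImplicit false
set_option linter.unusedSectionVars false

namespace Cfsg.Agent.Classical.SpRad

open Module
open Cfsg.Agent.Small.ArfTwo

variable {F : Type*} [Field F] [Fintype F] [CharP F 2]

theorem sum_psi_mul [DecidableEq F] (x : F) :
    ∑ s : F, psi (s * x) = if x = 0 then (Fintype.card F : ℤ) else 0 := by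
  split_ifs with h
  · subst h
    simp [psi_zero]
  · obtain ⟨z, hz⟩ := exists_psi (F := F)
    refine sum_eq_zero (fun s : F => psi (s * x)) (z / x) fun s => ?_
    show psi ((s + z / x) * x) = -psi (s * x)
    rw [add_mul, psi_add, div_mul_cancel₀ _ h, hz, mul_neg_one]

variable {W : Type*} [AddCommGroup W] [Module F W] [Fintype W] (β : W →ₗ[F] W →ₗ[F] F)

theorem gauss_sq (hnd : ∀ w, (∀ x, β w x = 0) → w = 0) (φ : W → F)
    (hφ : ∀ v w, φ (v + w) = φ v + φ w + β v w) {s : F} (hs : s ≠ 0) :
    (∑ w, psi (s * φ w)) * (∑ w, psi (s * φ w)) = Fintype.card W := by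
  classical
  have hφ0 : φ 0 = 0 := by
    have := hφ 0 0
    simp only [map_zero, LinearMap.zero_apply, add_zero] at this
    exact left_eq_add.1 this
  calc (∑ w, psi (s * φ w)) * (∑ w, psi (s * φ w))
      = ∑ w, ∑ h, psi (s * φ w) * psi (s * φ (w + h)) := by
        rw [Finset.sum_mul]
        refine Finset.sum_congr rfl fun w _ => ?_
        rw [Finset.mul_sum]
        exact (Equiv.sum_comp (Equiv.addLeft w) (fun x => psi (s * φ w) * psi (s * φ x))).symm
    _ = ∑ h, psi (s * φ h) * ∑ w, psi (s * β w h) := by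
        rw [Finset.sum_comm]
        refine Finset.sum_congr rfl fun h _ => ?_
        rw [Finset.mul_sum]
        refine Finset.sum_congr rfl fun w _ => ?_
        rw [hφ, mul_add, mul_add, psi_add, psi_add]
        linear_combination (psi (s * φ h) * psi (s * β w h)) * psi_mul_self (s * φ w)
    _ = psi (s * φ 0) * ∑ w : W, psi (s * β w 0) := by
        refine Finset.sum_eq_single 0 (fun h _ hh => ?_) (fun h => absurd (Finset.mem_univ _) h)
        have hg : s • β.flip h ≠ 0 := by
          intro e
          refine hh (hnd h fun x => ?_)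
          have h1 := hφ h x
          rw [add_comm h x, hφ x h] at h1
          have h2 : β x h = 0 := by
            have := congrArg (fun l : W →ₗ[F] F => l x) e
            simpa [hs] using this
          rw [h2] at h1
          linear_combination -h1
        rw [show (∑ w, psi (s * β w h)) = 0 from sum_psi_linear (g := s • β.flip h) hg, mul_zero]
    _ = Fintype.card W := by simp [hφ0, psi_zero]

theorem values (hnd : ∀ w, (∀ x, β w x = 0) → w = 0) (φ : W → F)
    (hφ : ∀ v w, φ (v + w) = φ v + φ w + β v w) (h2 : Fintype.card F ^ 2 ≤ Fintype.card W) :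
    (∀ t, t ≠ 0 → ∃ w, w ≠ 0 ∧ φ w = t) ∧
      (Fintype.card F ^ 4 ≤ Fintype.card W → ∃ w, w ≠ 0 ∧ φ w = 0) := by
  classical
  have hφ0 : φ 0 = 0 := by
    have := hφ 0 0
    simp only [map_zero, LinearMap.zero_apply, add_zero] at this
    exact left_eq_add.1 this
  obtain ⟨r, hr⟩ : ∃ r : ℕ, r = (∑ w, psi (φ w)).natAbs := ⟨_, rfl⟩
  have hr2 : (r : ℤ) * r = Fintype.card W := by
    rw [hr, ← gauss_sq β hnd φ hφ one_ne_zero]
    simp only [one_mul]
    exact Int.natAbs_mul_self' _
  have hrr : r * r = Fintype.card W := by exact_mod_cast hr2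
  have habs : ∀ s : F, s ≠ 0 → ∀ t : F, -(r : ℤ) ≤ psi (s * t) * ∑ w, psi (s * φ w) := by
    intro s hs t
    have h := gauss_sq β hnd φ hφ hs
    have h' : (psi (s * t) * ∑ w, psi (s * φ w)) * (psi (s * t) * ∑ w, psi (s * φ w)) = (r : ℤ) * r := by
      rw [hr2, ← h]
      linear_combination ((∑ w, psi (s * φ w)) * (∑ w, psi (s * φ w))) * psi_mul_self (s * t)
    rcases mul_self_eq_mul_self_iff.1 h' with e | e <;> rw [e] <;> omega
  have key : ∀ t : F, ((r : ℤ) * r - (Fintype.card F - 1) * r) ≤
      Fintype.card F * ((Finset.univ.filter fun w => φ w = t).card : ℤ) := by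
    intro t
    calc ((r : ℤ) * r - (Fintype.card F - 1) * r)
        ≤ (r : ℤ) * r + ∑ s ∈ Finset.univ.erase (0 : F), psi (s * t) * ∑ w, psi (s * φ w) := by
          have := Finset.card_nsmul_le_sum (Finset.univ.erase (0 : F))
            (fun s => psi (s * t) * ∑ w, psi (s * φ w)) (-(r : ℤ)) fun s hs => habs s (Finset.ne_of_mem_erase hs) t
          rw [Finset.card_erase_of_mem (Finset.mem_univ _), Finset.card_univ, nsmul_eq_mul,
            Nat.cast_sub Fintype.card_pos] at this
          push_cast at this
          linarith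
      _ = ∑ s : F, ∑ w, psi (s * (φ w + t)) := by
          rw [← Finset.add_sum_erase _ _ (Finset.mem_univ (0 : F)), hr2]
          congr 1
          · simp [psi_zero]
          · refine Finset.sum_congr rfl fun s _ => ?_
            rw [Finset.mul_sum]
            exact Finset.sum_congr rfl fun w _ => by rw [mul_add, psi_add, mul_comm]
      _ = Fintype.card F * ((Finset.univ.filter fun w => φ w = t).card : ℤ) := by
          rw [Finset.sum_comm]
          simp only [sum_psi_mul, CharTwo.add_eq_zero, ← Finset.sum_filter, Finset.sum_const, nsmul_eq_mul]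
          ring
  have hq : 2 ≤ Fintype.card F := Fintype.one_lt_card
  have hqr : Fintype.card F ≤ r := Nat.mul_self_le_mul_self_iff.1 (by rw [hrr, ← pow_two]; exact h2)
  constructor
  · intro t ht
    have hpos : (0 : ℤ) < Fintype.card F * ((Finset.univ.filter fun w => φ w = t).card : ℤ) := by
      refine lt_of_lt_of_le ?_ (key t)
      have h1 : (Fintype.card F : ℤ) ≤ r := by exact_mod_cast hqr
      have h2' : (2 : ℤ) ≤ Fintype.card F := by exact_mod_cast hq
      nlinarith
    obtain ⟨w, hw⟩ := Finset.card_pos.1 (show 0 < (Finset.univ.filter fun w => φ w = t).card by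
      have := (mul_pos_iff_of_pos_left (by exact_mod_cast Fintype.card_pos)).1 hpos
      exact_mod_cast this)
    refine ⟨w, fun e => ht ?_, (Finset.mem_filter.1 hw).2⟩
    rw [← (Finset.mem_filter.1 hw).2, e, hφ0]
  · intro h4
    have hqr2 : Fintype.card F ^ 2 ≤ r := Nat.mul_self_le_mul_self_iff.1 (by rw [hrr, ← pow_add]; exact h4)
    obtain ⟨w, hw, hw0⟩ : ∃ w ∈ (Finset.univ.filter fun w => φ w = 0), w ≠ 0 := by
      refine Finset.exists_mem_ne ?_ 0
      by_contra hcon
      push Not at hcon
      have h1 := key 0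
      have h3 : ((Finset.univ.filter fun w => φ w = 0).card : ℤ) ≤ 1 := by exact_mod_cast hcon
      have h5 : (Fintype.card F : ℤ) ^ 2 ≤ r := by exact_mod_cast hqr2
      have h2' : (2 : ℤ) ≤ Fintype.card F := by exact_mod_cast hq
      nlinarith
    exact ⟨w, hw0, (Finset.mem_filter.1 hw).2⟩

/-- Two additive maps without zeros, exchanged by inversion, are a common multiple of the square. -/
theorem hua (A D : F → F) (hA : ∀ x y, A (x + y) = A x + A y) (hD : ∀ x y, D (x + y) = D x + D y)
    (hA0 : ∀ s, s ≠ 0 → A s ≠ 0) (hD0 : ∀ s, s ≠ 0 → D s ≠ 0) (h : ∀ s, s ≠ 0 → A (s / D s) = 1 / D s) :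
    ∀ s, D s = D 1 * s ^ 2 ∧ A s = D s := by
  classical
  let a : F →+ F := AddMonoidHom.mk' A hA
  let d : F →+ F := AddMonoidHom.mk' D hD
  have hia : Function.Injective a := (injective_iff_map_eq_zero a).2 fun s hs => by_contra fun e => hA0 s e hs
  have hid : Function.Injective d := (injective_iff_map_eq_zero d).2 fun s hs => by_contra fun e => hD0 s e hs
  let G : F ≃+ F := (AddEquiv.ofBijective a (Finite.injective_iff_bijective.1 hia)).symm
  let H : F ≃+ F := (AddEquiv.ofBijective d (Finite.injective_iff_bijective.1 hid)).symm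
  have hH : ∀ y, D (H y) = y := fun y => (AddEquiv.ofBijective d (Finite.injective_iff_bijective.1 hid)).apply_symm_apply y
  have hG : ∀ x, G (A x) = x := fun x => (AddEquiv.ofBijective a (Finite.injective_iff_bijective.1 hia)).symm_apply_apply x
  have hGH : ∀ y, y ≠ 0 → G (1 / y) = H y / y := by
    intro y hy
    have hH0 : H y ≠ 0 := fun e => hy (by rw [← H.apply_symm_apply y] at *; simp_all)
    have := h (H y) hH0
    rw [hH] at this
    rw [← this, hG]
  have hsq : ∀ y, H (y * y) = y * H 1 := by
    intro y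
    by_cases hy : y = 0
    · simp [hy]
    by_cases hy1 : y = 1
    · simp [hy1]
    have hy' : 1 + y ≠ 0 := fun e => hy1 (CharTwo.add_eq_zero.1 e).symm
    have hp : y + y * y ≠ 0 := by
      rw [show y + y * y = y * (1 + y) by ring]; exact mul_ne_zero hy hy'
    have e : G (1 / y) + G (1 / (1 + y)) = G (1 / (y + y * y)) := by
      rw [← map_add]
      congr 1
      field_simp
      linear_combination y * (CharTwo.two_eq_zero (R := F))
    rw [hGH y hy, hGH _ hy', hGH _ hp, map_add, map_add] at e
    field_simp at e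
    rw [← pow_two]
    linear_combination -e + (y * H y) * (CharTwo.two_eq_zero (R := F))
  have h1 : H 1 ≠ 0 := fun e => one_ne_zero (H.injective (e.trans (map_zero H).symm))
  have hDs : ∀ s, D s = (s / H 1) ^ 2 := by
    intro s
    have := hH (s / H 1 * (s / H 1))
    rw [hsq, div_mul_cancel₀ _ h1] at this
    rw [this]; ring
  intro s
  refine ⟨by rw [hDs s, hDs 1]; ring, ?_⟩
  by_cases hs : s = 0
  · subst hs
    rw [show D 0 = 0 from map_zero d]
    exact map_zero a
  have hu : H 1 ^ 2 / s ≠ 0 := div_ne_zero (pow_ne_zero _ h1) hs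
  have := h _ hu
  rw [hDs] at this
  rw [show H 1 ^ 2 / s / (H 1 ^ 2 / s / H 1) ^ 2 = s by field_simp] at this
  rw [this, hDs]
  field_simp

end Cfsg.Agent.Classical.SpRad
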