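/-
The two cases: transvections present, or an invariant quadratic form.
-/
import Cfsg.Agent.Lib.Classical.SpRadical.Pair
import Cfsg.Agent.Lib.Classical.SpRadical.Values

set_option autoImplicit false
set_option linter.unusedSectionVars false

namespace Cfsg.Agent.Classical.SpRad

open Module

universe u v

/-- An irreducible group of isometries with one radical section. -/
structure Setup {F : Type u} [Field F] [CharP F 2] {V : Type v} [AddCommGroup V] [Module F V]
    (B : V →ₗ[F] V →ₗ[F] F) (L : Subgroup (V ≃ₗ[F] V)) : Prop where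
  alt : SpCount.IsAltND B
  pres : ∀ g ∈ L, ∀ x y, B (g x) (g y) = B x y
  irr : ∀ W : Submodule F V, (∀ g ∈ L, ∀ w ∈ W, g w ∈ W) → W = ⊥ ∨ W = ⊤
  start : ∃ a, a ≠ 0 ∧ Full B L a
  dim : 4 ≤ finrank F V

variable {F : Type u} [Field F] [CharP F 2] {V : Type v} [AddCommGroup V] [Module F V]
  {B : V →ₗ[F] V →ₗ[F] F} {L : Subgroup (V ≃ₗ[F] V)}

theorem Setup.partner (S : Setup B L) {a : V} (ha0 : a ≠ 0) (ha : Full B L a) :
    ∃ κ : F, ∃ g ∈ L, κ ≠ 0 ∧ B a (κ • g a) = 1 ∧ Full B L (κ • g a) := by
  obtain ⟨W, hW⟩ : ∃ W : Submodule F V, W = Submodule.span F ((fun g : V ≃ₗ[F] V => g a) '' L) := ⟨_, rfl⟩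
  have htop : W = ⊤ := by
    refine (S.irr W fun g hg w hw => ?_).resolve_left fun e => ha0 ?_
    · subst hW
      induction hw using Submodule.span_induction with
      | mem x hx =>
        obtain ⟨k, hk, rfl⟩ := hx
        exact Submodule.subset_span ⟨g * k, mul_mem hg hk, rfl⟩
      | zero => rw [map_zero]; exact Submodule.zero_mem _
      | add x y _ _ hx hy => rw [map_add]; exact Submodule.add_mem _ hx hy
      | smul c x _ hx => rw [map_smul]; exact Submodule.smul_mem _ c hx
    · have : a ∈ W := hW ▸ Submodule.subset_span ⟨1, one_mem L, rfl⟩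
      rwa [e, Submodule.mem_bot] at this
  obtain ⟨g, hg, hne⟩ : ∃ g ∈ L, B a (g a) ≠ 0 := by
    by_contra hcon
    push Not at hcon
    refine ha0 (S.alt.nondeg a fun x => ?_)
    have hx : x ∈ W := htop ▸ Submodule.mem_top
    subst hW
    induction hx using Submodule.span_induction with
    | mem x hx => obtain ⟨k, hk, rfl⟩ := hx; exact hcon k hk
    | zero => rw [map_zero]
    | add x y _ _ hx hy => rw [map_add, hx, hy, add_zero]
    | smul c x _ hx => rw [map_smul, hx, smul_zero]
  exact ⟨_, g, hg, inv_ne_zero hne, by rw [map_smul, smul_eq_mul, inv_mul_cancel₀ hne],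
    (ha.conj hg (S.pres g hg)).smul (inv_ne_zero hne)⟩

/-- The orthogonal space of a hyperbolic pair. -/
def Wp (B : V →ₗ[F] V →ₗ[F] F) (a b : V) : Submodule F V := LinearMap.ker (B a) ⊓ LinearMap.ker (B b)

theorem mem_Wp {a b w : V} : w ∈ Wp B a b ↔ B a w = 0 ∧ B b w = 0 := Iff.rfl

/-- Coordinates of a vector along a hyperbolic pair. -/
theorem split (hB : SpCount.IsAltND B) {a b : V} (hab : B a b = 1) (x : V) :
    x + B x b • a + B x a • b ∈ Wp B a b := by
  have hba : B b a = 1 := by rw [symm hB]; exact hab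
  rw [mem_Wp]
  constructor <;>
    simp only [map_add, map_smul, smul_eq_mul, hB.self, hab, hba, symm hB a x, symm hB b x, mul_zero, mul_one,
      add_zero, CharTwo.add_self_eq_zero]

theorem wp_pair (hB : SpCount.IsAltND B) [Finite V] [Finite F] {a b : V} (hab : B a b = 1)
    (f : V → F) (hf : ∀ v w, B a v = 0 → B a w = 0 → f (v + w) = f v + f w + B v w) (hdim : 4 ≤ finrank F V) :
    (∀ t, t ≠ 0 → ∃ w ∈ Wp B a b, w ≠ 0 ∧ f w = t) ∧
      (6 ≤ finrank F V → ∃ w ∈ Wp B a b, w ≠ 0 ∧ f w = 0) := by
  classical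
  haveI : FiniteDimensional F V := Module.Finite.of_finite
  haveI : Fintype F := Fintype.ofFinite F
  haveI : Fintype V := Fintype.ofFinite V
  have hp : SpCount.IsHPair B (a, b) := (symm hB b a).trans hab
  have hfr : finrank F V = 2 + finrank F ↥(SpCount.comp B (a, b)) := SpCount.finrank_comp hB hp
  obtain ⟨h1, h2⟩ := values (SpCount.res B (a, b)) (SpCount.res_isAltND hB hp).nondeg (fun w => f w)
    (fun v w => hf _ _ (SpCount.mem_comp.1 v.2).1 (SpCount.mem_comp.1 w.2).1)
    (by rw [Module.card_eq_pow_finrank (K := F) (V := ↥(SpCount.comp B (a, b)))]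
        exact Nat.pow_le_pow_right Fintype.card_pos (by omega))
  constructor
  · intro t ht
    obtain ⟨w, hw, hwt⟩ := h1 t ht
    exact ⟨w, SpCount.mem_comp.1 w.2, fun e => hw (Subtype.ext e), hwt⟩
  · intro h6
    obtain ⟨w, hw, hwt⟩ := h2 (by
      rw [Module.card_eq_pow_finrank (K := F) (V := ↥(SpCount.comp B (a, b)))]
      exact Nat.pow_le_pow_right Fintype.card_pos (by omega))
    exact ⟨w, SpCount.mem_comp.1 w.2, fun e => hw (Subtype.ext e), hwt⟩

/-- The orbit of `b` under the radical at `a`. -/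
theorem move_partner (hB : SpCount.IsAltND B) {a b w : V} (hab : B a b = 1) (hw : B b w = 0) {t : F}
    (h : In B L a w t) : ∃ g ∈ L, g b = b + w + t • a := by
  obtain ⟨g, hg, hg'⟩ := h.moves b
  refine ⟨g, hg, ?_⟩
  rw [hg', show B b a = 1 from (symm hB b a).trans hab, hw, one_smul, zero_smul, add_zero, mul_one]

variable [Finite V] [Finite F]

theorem exists_sq (c : F) : ∃ y : F, y * y = c := by
  haveI : Fintype F := Fintype.ofFinite F
  obtain ⟨r, hr⟩ := FiniteField.isSquare_of_char_two (ringChar.eq F 2) c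
  exact ⟨r, hr.symm⟩

/-- One transvection at a point with a radical section gives all transvections. -/
theorem Setup.all_trans (S : Setup B L) {a : V} (ha0 : a ≠ 0) (ha : Full B L a) {t : F} (ht0 : t ≠ 0)
    (ht : In B L a 0 t) : ∀ v s, In B L v 0 s := by
  have hB := S.alt
  -- rescale the given transvection to a partner
  obtain ⟨κ, g, hg, hκ, hab, hb⟩ := S.partner ha0 ha
  obtain ⟨b, hbdef⟩ : ∃ b, b = κ • g a := ⟨_, rfl⟩
  rw [← hbdef] at hab hb
  have hb0 : b ≠ 0 := fun e => one_ne_zero (by rw [← hab, e, map_zero])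
  have htb : In B L b 0 (t / (κ * κ)) := by
    rw [hbdef, in_scale_iff, smul_zero, mul_div_cancel₀ _ (mul_ne_zero hκ hκ)]
    have := ht.conj hg (S.pres g hg)
    rwa [map_zero] at this
  have hTa : ∀ s, In B L a 0 s := by
    intro s
    by_cases hq : Nat.card F = 2
    · have h01 : ∀ x : F, x = 0 ∨ x = 1 := by
        intro x
        by_contra hcon
        push Not at hcon
        haveI : Fintype F := Fintype.ofFinite F
        classical
        have : ({0, 1, x} : Finset F).card = 3 := by
          rw [Finset.card_insert_of_notMem (by simp [hcon.1.symm]), Finset.card_insert_of_notMem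
            (by simp [hcon.2.symm]), Finset.card_singleton]
        have h2 := Finset.card_le_univ ({0, 1, x} : Finset F)
        rw [this, ← Nat.card_eq_fintype_card, hq] at h2
        omega
      rcases h01 s with rfl | rfl
      · exact ⟨1, one_mem L, fun x => by simp [rmap]⟩
      · rwa [(h01 t).resolve_left ht0] at ht
    obtain ⟨f, hf1, hf2, hf3⟩ := id ha
    obtain ⟨w, hw, hw0, hwt⟩ := (wp_pair hB hab f hf1 S.dim).1 t ht0
    have hw' : In B L a w 0 := by
      have := (hf3 w hw.1).mul hB ht hw.1 (map_zero _)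
      rwa [add_zero, map_zero, add_zero, hwt, CharTwo.add_self_eq_zero] at this
    obtain ⟨k, hk, hkb⟩ := move_partner hB hab hw.2 hw'
    rw [zero_smul, add_zero] at hkb
    have hc : Full B L (b + w) := hkb ▸ hb.conj hk (S.pres k hk)
    have htc : In B L (b + w) 0 (t / (κ * κ)) := by
      have := htb.conj hk (S.pres k hk)
      rwa [map_zero, hkb] at this
    have hwb : ∀ r : F, r • b ≠ w := fun r e => hw0 (by
      have : B a w = 0 := hw.1
      rw [← e, map_smul, hab, smul_eq_mul, mul_one] at this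
      rw [← e, this, zero_smul])
    have hTb := pair_trans hB hq S.pres (a := b) (c := b + w) (by rw [map_add, hB.self, hw.2, add_zero])
      (fun hm => by
        obtain ⟨r, hr⟩ := Submodule.mem_span_singleton.1 hm
        exact hwb (r - 1) (by rw [sub_smul, one_smul, hr]; abel))
      (fun hm => by
        obtain ⟨r, hr⟩ := Submodule.mem_span_singleton.1 hm
        rw [smul_add] at hr
        have h0 : r • w = (1 - r) • b := by linear_combination (norm := module) hr
        by_cases hr0 : r = 0
        · rw [hr0, zero_smul, sub_zero, one_smul] at h0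
          exact hb0 h0.symm
        · exact hwb (r⁻¹ * (1 - r)) (by rw [mul_smul, ← h0, inv_smul_smul₀ hr0]))
      hb hc (ε := 0) (div_ne_zero ht0 (mul_ne_zero hκ hκ)) (by rw [zero_smul]; exact htc) (s / (κ * κ))
    rw [hbdef, in_scale_iff, smul_zero, mul_div_cancel₀ _ (mul_ne_zero hκ hκ)] at hTb
    have := hTb.conj (inv_mem hg) (S.pres _ (inv_mem hg))
    rwa [map_zero, show g⁻¹ (g a) = a from g.symm_apply_apply a] at this
  have hTb : ∀ s, In B L b 0 s := by
    intro s
    rw [hbdef, in_scale_iff, smul_zero]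
    have := (hTa (κ * κ * s)).conj hg (S.pres g hg)
    rwa [map_zero] at this
  -- the point `b + w + c • a` carries all transvections
  have key : ∀ a b : V, B a b = 1 → Full B L a → (∀ s, In B L a 0 s) → (∀ s, In B L b 0 s) →
      ∀ u, B a u ≠ 0 → ∀ s, In B L u 0 s := by
    intro a b hab ha hTa hTb u hu s
    obtain ⟨u', hu'⟩ : ∃ u', u' = (B a u)⁻¹ • u := ⟨_, rfl⟩
    have h1 : B u' a = 1 := by
      rw [symm hB, hu', map_smul, smul_eq_mul, inv_mul_cancel₀ hu]
    obtain ⟨w, hwdef⟩ : ∃ w, w = u' + B u' b • a + B u' a • b := ⟨_, rfl⟩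
    have hw : w ∈ Wp B a b := hwdef ▸ split hB hab u'
    obtain ⟨t₁, ht₁⟩ := ha.exists_in hw.1
    have ht₂ : In B L a w (B u' b) := by
      have := ht₁.mul hB (hTa (t₁ + B u' b)) hw.1 (map_zero _)
      rwa [add_zero, map_zero, add_zero, ← add_assoc, CharTwo.add_self_eq_zero, zero_add] at this
    obtain ⟨k, hk, hkb⟩ := move_partner hB hab hw.2 ht₂
    have e : k b = u' := by
      rw [hkb, hwdef, h1, one_smul]
      linear_combination (norm := module) add_self_vec F b + add_self_vec F (B u' b • a)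
    have h3 := (hTb (B a u * B a u * s)).conj hk (S.pres k hk)
    rw [map_zero, e, hu', in_scale_iff, smul_zero] at h3
    rwa [← mul_assoc, show (B a u)⁻¹ * (B a u)⁻¹ * (B a u * B a u) = 1 by field_simp, one_mul] at h3
  have hba : B b a = 1 := (symm hB b a).trans hab
  intro v s
  by_cases hv : v = 0
  · exact ⟨1, one_mem L, fun x => by simp [rmap, hv]⟩
  by_cases h1 : B a v ≠ 0
  · exact key a b hab ha hTa hTb v h1 s
  by_cases h2 : B b v ≠ 0
  · exact key b a hba hb hTb hTa v h2 s
  push Not at h1 h2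
  obtain ⟨z, hz⟩ : ∃ z, B v z ≠ 0 := by
    by_contra hcon
    push Not at hcon
    exact hv (hB.nondeg v hcon)
  obtain ⟨w, hwdef⟩ : ∃ w, w = z + B z b • a + B z a • b := ⟨_, rfl⟩
  have hw : w ∈ Wp B a b := hwdef ▸ split hB hab z
  have hvw : B v w = B v z := by
    rw [hwdef, map_add, map_add, map_smul, map_smul, symm hB v a, h1, symm hB v b, h2, smul_zero, smul_zero,
      add_zero, add_zero]
  obtain ⟨t₁, ht₁⟩ := ha.exists_in hw.1
  obtain ⟨k, hk, hkv⟩ := ht₁.moves v
  rw [show B v a = 0 from (symm hB v a).trans h1, hvw, zero_smul, add_zero, mul_zero, zero_smul, add_zero] at hkv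
  have h3 := key b a hba hb hTb hTa (k v) (by
    rw [hkv, map_add, map_smul, h2, hba, zero_add, smul_eq_mul, mul_one]; exact hz) s
  have h4 := h3.conj (inv_mem hk) (S.pres _ (inv_mem hk))
  rwa [map_zero, show k⁻¹ (k v) = v from k.symm_apply_apply v] at h4

end Cfsg.Agent.Classical.SpRad
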