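/-
Large subgroups of the symmetric group of degree six; the symplectic group of dimension four over two elements.
-/
import Cfsg.Agent.Lib.Classical.SymSix
import Cfsg.Agent.Lib.Classical.SymmetricSymplectic
import Cfsg.Agent.Lib.Classical.SymplecticIso

set_option autoImplicit false
set_option linter.unusedSectionVars false

namespace Cfsg.Agent.Classical.SpRad

open Module Equiv

/-- A subgroup of index at most four contains the alternating group. -/
theorem alt_le_of_index {H : Subgroup SymSix.G6} (hH : H.index ≤ 4) : alternatingGroup (Fin 6) ≤ H := by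
  classical
  haveI : IsSimpleGroup (alternatingGroup (Fin 6)) := alternatingGroup.isSimpleGroup (by simp)
  haveI : Fintype (SymSix.G6 ⧸ H) := Fintype.ofFinite _
  let f := MulAction.toPermHom SymSix.G6 (SymSix.G6 ⧸ H)
  have hnot : f.ker ≠ ⊥ := fun e => by
    have h1 := Nat.card_le_card_of_injective f ((MonoidHom.ker_eq_bot_iff f).1 e)
    rw [Nat.card_perm, Nat.card_perm, Nat.card_fin, show Nat.card (SymSix.G6 ⧸ H) = H.index from rfl] at h1
    have h2 := Nat.factorial_le hH
    have h720 : Nat.factorial 6 = 720 := rfl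
    have h24 : Nat.factorial 4 = 24 := rfl
    omega
  have hker : f.ker = H.normalCore := (Subgroup.normalCore_eq_ker H).symm
  haveI hn : (f.ker.subgroupOf (alternatingGroup (Fin 6))).Normal := inferInstance
  rcases hn.eq_bot_or_eq_top with h | h
  · refine absurd ((Subgroup.eq_bot_iff_forall _).mpr fun z hz => SymSix.eq_one_of_centralizes fun a ha => ?_) hnot
    rw [Subgroup.subgroupOf_eq_bot] at h
    have h1 : z * a * z⁻¹ * a⁻¹ ∈ f.ker := by
      have := mul_mem hz ((MonoidHom.normal_ker f).conj_mem _ (inv_mem hz) a)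
      simpa [mul_assoc] using this
    have h2 : z * a * z⁻¹ * a⁻¹ ∈ alternatingGroup (Fin 6) :=
      mul_mem ((alternatingGroup.normal).conj_mem a ha z) (inv_mem ha)
    exact mul_inv_eq_one.mp (Subgroup.disjoint_def.mp h h1 h2)
  · rw [Subgroup.subgroupOf_eq_top] at h
    exact h.trans (hker.le.trans H.normalCore_le)

/-- The stabiliser of a point is the symmetric group of degree five. -/
theorem stab_equiv : Nonempty (↥(MulAction.stabilizer SymSix.G6 (0 : Fin 6)) ≃* Equiv.Perm (Fin 5)) := by
  let ι : Fin 5 ↪ Fin 6 := ⟨Fin.succ, Fin.succ_injective _⟩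
  let φ := (Equiv.Perm.viaEmbeddingHom ι).codRestrict (MulAction.stabilizer SymSix.G6 (0 : Fin 6)) fun x => by
    refine MulAction.mem_stabilizer_iff.2 (Equiv.Perm.viaEmbedding_apply_of_notMem x ι 0 ?_)
    rintro ⟨i, hi⟩
    exact Fin.succ_ne_zero i hi
  have hinj : Function.Injective φ := fun x y h =>
    Equiv.Perm.viaEmbeddingHom_injective ι (congrArg Subtype.val h)
  have hcard : Nat.card ↥(MulAction.stabilizer SymSix.G6 (0 : Fin 6)) = Nat.card (Equiv.Perm (Fin 5)) := by
    have h := (MulAction.stabilizer SymSix.G6 (0 : Fin 6)).card_mul_index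
    rw [SymSix.card_stab, Nat.card_perm, Nat.card_fin, show Nat.factorial 6 = 720 from rfl] at h
    rw [Nat.card_perm, Nat.card_fin, show Nat.factorial 5 = 120 from rfl]
    omega
  exact ⟨(MulEquiv.ofBijective φ ((Nat.bijective_iff_injective_and_card φ).2 ⟨hinj, hcard.symm⟩)).symm⟩

/-- A subgroup of order divisible by sixty and by eight. -/
theorem large_cases (H : Subgroup SymSix.G6) {s : ℕ} (hH : Nat.card H = 15 * s) (h4 : 4 ∣ s) (hs : s ≠ 4) :
    H = ⊤ ∨ Nonempty (↥H ≃* ↥(alternatingGroup (Fin 6))) ∨ Nonempty (↥H ≃* Equiv.Perm (Fin 5)) := by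
  have hidx := H.card_mul_index
  rw [hH, Nat.card_perm, Nat.card_fin, show Nat.factorial 6 = 720 from rfl] at hidx
  obtain ⟨k, rfl⟩ := h4
  have hk : k * H.index = 12 := by
    have : 60 * (k * H.index) = 720 := by rw [← hidx]; ring
    omega
  have hi : H.index = 6 ∨ H.index ≤ 4 := by
    have h12 : k ∣ 12 := ⟨_, hk.symm⟩
    have hk12 : k ≤ 12 := Nat.le_of_dvd (by norm_num) h12
    interval_cases k <;> omega
  rcases hi with h | h
  · obtain ⟨φ, hφ⟩ := SymSix.exists_auto H h
    obtain ⟨e⟩ := stab_equiv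
    refine Or.inr (Or.inr ⟨?_⟩)
    have hm : H.map φ.toMonoidHom = MulAction.stabilizer SymSix.G6 (0 : Fin 6) := by
      rw [hφ, Subgroup.map_comap_eq_self_of_surjective φ.surjective]
    exact ((φ.subgroupMap H).trans (MulEquiv.subgroupCongr hm)).trans e
  · have hA := alt_le_of_index h
    have hAc : Nat.card ↥(alternatingGroup (Fin 6)) = 360 := by
      rw [nat_card_alternatingGroup, Nat.card_fin]; rfl
    have hle := Subgroup.card_le_of_le hA
    have hd := Subgroup.card_dvd_of_le hA
    rw [hAc, hH] at hle hd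
    rcases eq_or_ne k 6 with rfl | hk6
    · refine Or.inr (Or.inl ⟨MulEquiv.subgroupCongr (Subgroup.eq_of_le_of_card_ge hA ?_).symm⟩)
      rw [hAc, hH]
    · refine Or.inl (Subgroup.eq_top_of_card_eq H ?_)
      rw [hH, Nat.card_perm, Nat.card_fin, show Nat.factorial 6 = 720 from rfl]
      have h12 : k ∣ 12 := ⟨_, hk.symm⟩
      have hk12 : k ≤ 12 := Nat.le_of_dvd (by norm_num) h12
      interval_cases k <;> omega

universe u v

/-- The isometries of a four-dimensional symplectic space over two elements. -/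
theorem isom_equiv_six {F : Type u} [Field F] [Finite F] {V : Type v} [AddCommGroup V] [Module F V]
    [FiniteDimensional F V] {B : V →ₗ[F] V →ₗ[F] F} (hB : SpCount.IsAltND B) (hd : finrank F V = 4)
    (hq : Nat.card F = 2) : Nonempty (↥(SpCount.isom B) ≃* SymSix.G6) := by
  haveI : Fintype F := Fintype.ofFinite F
  have hc : Fintype.card F = 2 := by rw [← Nat.card_eq_fintype_card, hq]
  let ψ : ZMod 2 ≃+* F := ZMod.ringEquivOfPrime F Nat.prime_two hc
  obtain ⟨e⟩ := SpCount.exists_isomEquiv hB (m := 2) (by omega)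
  obtain ⟨f, hf⟩ := SymmSp.exists_injective 3 le_rfl
  haveI : CharP F 2 := charP_of_injective_ringHom (f := (ψ : ZMod 2 →+* F)) ψ.injective 2
  haveI : Finite ↥(SpCount.isom B) := Finite.of_injective _ e.injective
  have hJ : (Matrix.J (Fin 2) (ZMod 2)).map ψ = Matrix.J (Fin 2) F := by
    ext i j
    rcases i with i | i <;> rcases j with j | j <;>
      simp [Matrix.J, Matrix.one_apply, apply_ite ψ, CharTwo.neg_eq]
  let μ : Matrix.symplecticGroup (Fin 2) (ZMod 2) →* Matrix.symplecticGroup (Fin 2) F :=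
    { toFun := fun A => ⟨A.1.map ψ, SymplecticGroup.mem_iff.2 (by
        rw [← hJ, ← Matrix.transpose_map, ← Matrix.map_mul, ← Matrix.map_mul, SymplecticGroup.mem_iff.1 A.2])⟩
      map_one' := Subtype.ext (Matrix.map_one _ (map_zero ψ) (map_one ψ))
      map_mul' := fun A B => Subtype.ext (Matrix.map_mul) }
  have hμ : Function.Injective μ := fun A B h =>
    Subtype.ext (Matrix.map_injective ψ.injective (congrArg Subtype.val h))
  let g : SymSix.G6 →* ↥(SpCount.isom B) := e.symm.toMonoidHom.comp (μ.comp f)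
  refine ⟨(MulEquiv.ofBijective g ((Nat.bijective_iff_injective_and_card g).2 ⟨?_, ?_⟩)).symm⟩
  · exact e.symm.injective.comp (hμ.comp hf)
  · rw [Nat.card_congr e.toEquiv, SpCount.card_symplecticGroup, hc, Nat.card_perm, Nat.card_fin]
    rfl

end Cfsg.Agent.Classical.SpRad
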