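/-
The exceptional situation over two elements in dimension four.
-/
import Cfsg.Agent.Lib.Classical.SpRadical.Cases
import Cfsg.Agent.Lib.Classical.SpRadical.SmallPerm

set_option autoImplicit false
set_option linter.unusedSectionVars false

namespace Cfsg.Agent.Classical.SpRad

open Module

universe u v

variable {F : Type u} [Field F] [CharP F 2] {V : Type v} [AddCommGroup V] [Module F V] [Finite V] [Finite F]
  {B : V →ₗ[F] V →ₗ[F] F} {L : Subgroup (V ≃ₗ[F] V)}

theorem two_cases (hq : Nat.card F = 2) (x : F) : x = 0 ∨ x = 1 := by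
  classical
  haveI : Fintype F := Fintype.ofFinite F
  by_contra hcon
  push Not at hcon
  have : ({0, 1, x} : Finset F).card = 3 := by
    rw [Finset.card_insert_of_notMem (by simp [hcon.1.symm]),
      Finset.card_insert_of_notMem (by simp [hcon.2.symm]), Finset.card_singleton]
  have h2 := Finset.card_le_univ ({0, 1, x} : Finset F)
  rw [this, ← Nat.card_eq_fintype_card, hq] at h2
  omega

/-- Without transvections and without an invariant form the group is large. -/
theorem Setup.four (S : Setup B L) (hN : NoTrans B L) (hq : Nat.card F = 2) (hd : finrank F V = 4)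
    (hG : ¬ Good B L) :
    (∀ g : V ≃ₗ[F] V, (∀ x y, B (g x) (g y) = B x y) → g ∈ L) ∨
      Nonempty (↥L ≃* ↥(alternatingGroup (Fin 6))) ∨ Nonempty (↥L ≃* Equiv.Perm (Fin 5)) := by
  classical
  haveI : FiniteDimensional F V := Module.Finite.of_finite
  haveI : Fintype F := Fintype.ofFinite F
  haveI : Finite (V ≃ₗ[F] V) := Finite.of_injective (fun g => (g : V → V)) DFunLike.coe_injective
  have hB := S.alt
  simp only [Good, not_forall] at hG
  obtain ⟨a, c, ha, hc, hac, hind, hind', y, hy⟩ := hG
  have hy0 : y ≠ 0 := fun e => hy ⟨1, one_mem L, fun x => by simp [rmap, e]⟩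
  rw [(two_cases hq y).resolve_left hy0, one_smul] at hy
  have ha0 : a ≠ 0 := fun e => hind' (e ▸ Submodule.zero_mem _)
  have hc0 : c ≠ 0 := fun e => hind (e ▸ Submodule.zero_mem _)
  have hca : B c a = 0 := (symm hB c a).trans hac
  obtain ⟨t, ht⟩ := ha.exists_in hac
  have ht1 : t = 1 := (two_cases hq t).resolve_left fun e => hy (e ▸ ht)
  subst ht1
  have hz : In B L c a 1 := by
    have h := pair_line hB S.pres hca hind' hc (ε := 1) (by rwa [one_smul]) 1
    rwa [mul_one, mul_one, one_smul] at h
  obtain ⟨z, hzL, hz'⟩ := hz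
  have hza : z a = a := by
    rw [hz', rmap, hac, hB.self]
    simp
  obtain ⟨κ, g₀, hg₀, hκ, hab, hb⟩ := S.partner ha0 ha
  rw [(two_cases hq κ).resolve_left hκ, one_smul] at hab hb
  obtain ⟨b, hbdef⟩ : ∃ b, b = g₀ a := ⟨_, rfl⟩
  rw [← hbdef] at hab hb
  obtain ⟨f, hf1, hf2, hf3⟩ := id ha
  let O : Set V := (fun g : V ≃ₗ[F] V => g a) '' L
  have hOmul : ∀ g ∈ L, ∀ x ∈ O, g x ∈ O := by
    rintro g hg _ ⟨k, hk, rfl⟩
    exact ⟨g * k, mul_mem hg hk, rfl⟩
  have hbO : b ∈ O := hbdef ▸ ⟨g₀, hg₀, rfl⟩
  have hba : B b a = 1 := (symm hB b a).trans hab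
  -- a second point over the same line
  have hb2 : b + a ∈ O := by
    have hzb : z b = b + B b c • a + B b a • c + B b c • c := by rw [hz', rmap, one_mul]
    rcases two_cases hq (B b c) with h | h
    · have h1 : z b ∈ O := hOmul z hzL b hbO
      rw [hzb, h, hba, zero_smul, add_zero, one_smul, zero_smul, add_zero] at h1
      obtain ⟨m, hm, hm'⟩ := ht.moves (b + c)
      have h2 : m (b + c) ∈ O := hOmul m hm _ h1
      rw [hm', map_add, LinearMap.add_apply, LinearMap.add_apply, hba, hca, h, hB.self, add_zero, add_zero, one_smul,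
        zero_smul, add_zero, one_mul, one_smul] at h2
      convert h2 using 1
      linear_combination (norm := module) -add_self_vec F c
    · have h1 : z b ∈ O := hOmul z hzL b hbO
      rw [hzb, h, hba, one_smul, one_smul] at h1
      convert h1 using 1
      linear_combination (norm := module) -add_self_vec F c
  -- every partner of `a`
  have hout : ∀ u, B a u = 1 → u ∈ O := by
    intro u hu
    have hw := split hB hab u
    obtain ⟨w, hwdef⟩ : ∃ w, w = u + B u b • a + B u a • b := ⟨_, rfl⟩
    rw [← hwdef] at hw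
    obtain ⟨b', hb', r, hr, hb'eq⟩ : ∃ b' ∈ O, ∃ r : F, r = B u b + f w ∧ b' = b + r • a := by
      rcases two_cases hq (B u b + f w) with h | h
      · exact ⟨b, hbO, 0, h.symm, by rw [zero_smul, add_zero]⟩
      · exact ⟨b + a, hb2, 1, h.symm, by rw [one_smul]⟩
    obtain ⟨k, hk, hk'⟩ := (hf3 w hw.1).moves b'
    have h1 : k b' ∈ O := hOmul k hk b' hb'
    rw [hk', show B b' a = 1 by rw [hb'eq, map_add, LinearMap.add_apply, hba, map_smul, LinearMap.smul_apply, hB.self,
        smul_zero, add_zero],
      show B b' w = 0 by rw [hb'eq, map_add, LinearMap.add_apply, map_smul, LinearMap.smul_apply,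
        show B b w = 0 from hw.2, show B a w = 0 from hw.1, smul_zero, add_zero],
      one_smul, zero_smul, add_zero, mul_one] at h1
    convert h1 using 1
    rw [hb'eq, hr, hwdef, show B u a = 1 from (symm hB u a).trans hu, one_smul]
    linear_combination (norm := module) -(add_self_vec F (B u b • a)) - add_self_vec F b -
      add_self_vec F (f (u + B u b • a + b) • a)
  -- transitivity
  have hall : ∀ v, v ≠ 0 → v ∈ O := by
    intro v hv
    obtain ⟨u, hau, hvu⟩ : ∃ u, B a u = 1 ∧ B v u = 1 := by
      by_cases h : B a v = 0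
      · by_cases hm : v ∈ F ∙ a
        · obtain ⟨r, hr⟩ := Submodule.mem_span_singleton.1 hm
          rcases two_cases hq r with rfl | rfl
          · exact absurd (by rw [← hr, zero_smul]) hv
          · exact ⟨b, hab, by rw [← hr, one_smul]; exact hab⟩
        obtain ⟨u, hu, huv⟩ := exists_sep hB hm 1
        have hua : B a u = 0 := (symm hB a u).trans (hu a (Submodule.mem_span_singleton_self a))
        rcases two_cases hq (B v b) with hh | hh
        · exact ⟨b + u, by rw [map_add, hab, hua, add_zero],
            by rw [map_add, hh, zero_add, symm hB]; exact huv⟩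
        · exact ⟨b, hab, hh⟩
      · have h1 : B a v = 1 := (two_cases hq _).resolve_left h
        exact ⟨v + a, by rw [map_add, h1, hB.self, add_zero],
          by rw [map_add, hB.self, zero_add, symm hB]; exact h1⟩
    obtain ⟨g, hg, hgu⟩ := hout u hau
    have hgu' : g⁻¹ u = a := by
      rw [← show g a = u from hgu]; exact g.symm_apply_apply a
    have h1 : g⁻¹ v ∈ O := hout _ (by
      rw [← hgu', S.pres _ (inv_mem hg), symm hB]; exact hvu)
    have h2 := hOmul g hg _ h1
    rwa [show g (g⁻¹ v) = v from g.apply_symm_apply v] at h2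
  -- the order of the group
  haveI : Fintype V := Fintype.ofFinite V
  have hO : O = {v | v ≠ 0} := by
    refine Set.Subset.antisymm ?_ fun v hv => hall v hv
    rintro _ ⟨g, -, rfl⟩
    exact fun e => ha0 (g.map_eq_zero_iff.1 e)
  have hOc : Nat.card ↥O = 15 := by
    rw [hO, Nat.card_eq_fintype_card]
    have h16 : Fintype.card V = 16 := by
      rw [Module.card_eq_pow_finrank (K := F), hd, ← Nat.card_eq_fintype_card, hq]; rfl
    rw [show Fintype.card ↥{v : V | v ≠ 0} = Fintype.card {v : V // ¬ v = 0} from Fintype.card_congr (Equiv.refl _),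
      Fintype.card_subtype_compl, h16, Fintype.card_subtype_eq]
  haveI : Finite L := inferInstance
  letI act : MulAction L V :=
    { smul := fun g x => (g : V ≃ₗ[F] V) x, one_smul := fun _ => rfl, mul_smul := fun _ _ _ => rfl }
  have horb : MulAction.orbit L a = O := by
    ext x
    constructor
    · rintro ⟨g, rfl⟩; exact ⟨g, g.2, rfl⟩
    · rintro ⟨g, hg, rfl⟩; exact ⟨⟨g, hg⟩, rfl⟩
  have hcard := (MulAction.stabilizer L a).card_mul_index
  rw [MulAction.index_stabilizer, horb, ← Nat.card_coe_set_eq, hOc] at hcard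
  -- the stabiliser
  let ex : ↥(LinearMap.ker (B a)) → (V ≃ₗ[F] V) := fun v => (hf3 (v : V) v.2).choose
  have hex : ∀ v : ↥(LinearMap.ker (B a)), ex v ∈ L ∧ ∀ x, ex v x = rmap B a v (f v) x := fun v =>
    (hf3 (v : V) v.2).choose_spec
  have hfv : ∀ (v : ↥(LinearMap.ker (B a))) x, ex v x = rmap B a v (f v) x := fun v => (hex v).2
  let ξ : Multiplicative ↥(LinearMap.ker (B a)) →* ↥(MulAction.stabilizer L a) :=
    { toFun := fun v => ⟨⟨ex v.toAdd, (hex v.toAdd).1⟩, show ex v.toAdd a = a by
        rw [hfv, rmap, hB.self, show B a (v.toAdd : V) = 0 from v.toAdd.2]; simp⟩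
      map_one' := by
        refine Subtype.ext (Subtype.ext (LinearEquiv.ext fun x => ?_))
        show ex 0 x = x
        rw [hfv, Submodule.coe_zero, ← zero_smul F a, hf2, rmap]
        simp
      map_mul' := fun v w => by
        refine Subtype.ext (Subtype.ext (LinearEquiv.ext fun x => ?_))
        show ex (v.toAdd + w.toAdd) x = ex v.toAdd (ex w.toAdd x)
        rw [hfv, hfv, hfv, rmap_comp hB v.toAdd.2 w.toAdd.2, Submodule.coe_add, hf1 _ _ v.toAdd.2 w.toAdd.2] }
  obtain ⟨d, hd1, hd2⟩ := exists_sep hB hind 1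
  have hda : B d a = 0 := hd1 a (Submodule.mem_span_singleton_self a)
  obtain ⟨zs, hzs⟩ : ∃ zs : ↥(MulAction.stabilizer L a), zs.1.1 = z := ⟨⟨⟨z, hzL⟩, hza⟩, rfl⟩
  have hznot : zs ∉ ξ.range := by
    rintro ⟨v, hv⟩
    have e : ex v.toAdd d = z d := congrArg (fun w : ↥(MulAction.stabilizer L a) => w.1.1 d) hv ▸ by rw [hzs]
    rw [hfv, hz', rmap, rmap, hda, hd2, one_smul, one_mul, one_smul, zero_smul, zero_smul, mul_zero, zero_smul,
      add_zero, add_zero] at e
    have h1 : B d (v.toAdd : V) • a = a + c := by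
      linear_combination (norm := module) e
    refine hind (Submodule.mem_span_singleton.2 ⟨B d (v.toAdd : V) - 1, ?_⟩)
    rw [sub_smul, one_smul, h1]
    abel
  have hrange : 4 ∣ Nat.card ↥ξ.range := by
    have hker : Nat.card (Multiplicative ↥(LinearMap.ker (B a))) = Nat.card ↥ξ.range * Nat.card ↥ξ.ker := by
      rw [mul_comm, ← Subgroup.index_ker ξ, Subgroup.card_mul_index]
    have h8 : Nat.card (Multiplicative ↥(LinearMap.ker (B a))) ≤ 8 * 1 := by
      rw [Nat.card_congr Multiplicative.toAdd, Module.natCard_eq_pow_finrank (K := F), hq]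
      have h1 := (B a).finrank_range_add_finrank_ker
      have h2 : LinearMap.range (B a) ≠ ⊥ := fun e => one_ne_zero (by
        have hm : B a b ∈ LinearMap.range (B a) := ⟨b, rfl⟩
        rwa [e, Submodule.mem_bot, hab] at hm)
      have h3 : 1 ≤ finrank F ↥(LinearMap.range (B a)) := Submodule.one_le_finrank_iff.2 h2
      exact (Nat.pow_le_pow_right (by norm_num) (show finrank F ↥(LinearMap.ker (B a)) ≤ 3 by omega)).trans
        (by norm_num)
    -- the kernel has two elements
    have hk2 : Nat.card ↥ξ.ker = 2 := by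
      rw [Nat.card_eq_two_iff]
      refine ⟨1, ⟨Multiplicative.ofAdd ⟨a, hB.self a⟩, ?_⟩, fun e => ha0 ?_, Set.eq_univ_of_forall fun v => ?_⟩
      · refine Subtype.ext (Subtype.ext (LinearEquiv.ext fun x => ?_))
        show ex ⟨a, hB.self a⟩ x = x
        rw [hfv, show f a = 0 by rw [← one_smul F a]; exact hf2 1, rmap]
        simp [add_assoc, add_self_vec F]
      · exact (congrArg (fun w : ↥ξ.ker => ((w.1.toAdd : ↥(LinearMap.ker (B a))) : V)) e).symm
      · have hv : ∀ x, ex v.1.toAdd x = x := fun x =>
          congrArg (fun w : ↥(MulAction.stabilizer L a) => w.1.1 x) v.2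
        obtain ⟨d', -, hd'⟩ := exists_sep hB (U := ⊥) (x := a) (by rwa [Submodule.mem_bot]) 1
        have h := hv d'
        rw [hfv, rmap, hd', one_smul, mul_one] at h
        have h1 : (v.1.toAdd : V) = (B d' (v.1.toAdd : V) + f v.1.toAdd) • a := by
          linear_combination (norm := module) h -
            add_self_vec F (B d' (v.1.toAdd : V) • a) - add_self_vec F (f v.1.toAdd • a)
        rw [Set.mem_insert_iff, Set.mem_singleton_iff]
        rcases two_cases hq (B d' (v.1.toAdd : V) + f v.1.toAdd) with hh | hh <;> rw [hh] at h1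
        · left
          exact Subtype.ext (Subtype.ext (h1.trans (zero_smul F a)))
        · right
          exact Subtype.ext (Subtype.ext (h1.trans (one_smul F a)))
    have h8' : Nat.card (Multiplicative ↥(LinearMap.ker (B a))) = 8 := by
      rw [Nat.card_congr Multiplicative.toAdd, Module.natCard_eq_pow_finrank (K := F), hq]
      have h1 := (B a).finrank_range_add_finrank_ker
      have h2 := Submodule.finrank_le (LinearMap.range (B a))
      rw [Module.finrank_self] at h2
      have h2' : LinearMap.range (B a) ≠ ⊥ := fun e => one_ne_zero (by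
        have hm : B a b ∈ LinearMap.range (B a) := ⟨b, rfl⟩
        rwa [e, Submodule.mem_bot, hab] at hm)
      have h3 : 1 ≤ finrank F ↥(LinearMap.range (B a)) := Submodule.one_le_finrank_iff.2 h2'
      rw [show finrank F ↥(LinearMap.ker (B a)) = 3 by omega]
      rfl
    rw [h8', hk2] at hker
    exact ⟨1, by omega⟩
  obtain ⟨s, hs⟩ : ∃ s, s = Nat.card ↥(MulAction.stabilizer L a) := ⟨_, rfl⟩
  have h4 : 4 ∣ s := hs ▸ hrange.trans (Subgroup.card_subgroup_dvd_card _)
  have hs4 : s ≠ 4 := fun e => by
    refine hznot ?_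
    rw [show ξ.range = ⊤ from Subgroup.eq_top_of_le_card _ (by
      rw [← hs, e]; exact Nat.le_of_dvd Nat.card_pos hrange)]
    exact Subgroup.mem_top _
  rw [← hs] at hcard
  -- transport
  obtain ⟨e⟩ := isom_equiv_six hB hd hq
  let L' : Subgroup ↥(SpCount.isom B) := L.subgroupOf (SpCount.isom B)
  have hle : L ≤ SpCount.isom B := fun g hg => S.pres g hg
  let eL : ↥L ≃* ↥(L'.map e.toMonoidHom) :=
    ((Subgroup.subgroupOfEquivOfLe hle).symm).trans (e.subgroupMap L')
  rcases large_cases (L'.map e.toMonoidHom) (s := s) (by rw [← Nat.card_congr eL.toEquiv, ← hcard, mul_comm]) h4 hs4 with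
    h | h | h
  · refine Or.inl fun g hg => ?_
    have : e ⟨g, hg⟩ ∈ L'.map e.toMonoidHom := h ▸ Subgroup.mem_top _
    obtain ⟨k, hk, hk'⟩ := Subgroup.mem_map.1 this
    rw [e.injective hk'] at hk
    exact hk
  · exact Or.inr (Or.inl (h.map eL.trans))
  · exact Or.inr (Or.inr (h.map eL.trans))

end Cfsg.Agent.Classical.SpRad
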