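/-
Without transvections: the invariant quadratic form.
-/
import Cfsg.Agent.Lib.Classical.SpRadical.Cases
import Cfsg.Agent.Lib.Classical.OrthReflect

set_option autoImplicit false
set_option linter.unusedSectionVars false

namespace Cfsg.Agent.Classical.SpRad

open Module QuadraticMap

universe u v

variable {F : Type u} [Field F] [CharP F 2] {V : Type v} [AddCommGroup V] [Module F V] [Finite V] [Finite F]
  {B : V →ₗ[F] V →ₗ[F] F} {L : Subgroup (V ≃ₗ[F] V)}

theorem in_shift_base {b w : V} {r t : F} : In B L b (r • b + w) t ↔ In B L b w t := by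
  rw [add_comm, in_shift_iff]

/-- A vector of `Wp` spanning with `b` is not a multiple of `b`. -/
theorem wp_indep (hB : SpCount.IsAltND B) {a b w : V} (hab : B a b = 1) (hw : w ∈ Wp B a b) (hw0 : w ≠ 0) :
    b + w ∉ F ∙ b ∧ b ∉ F ∙ (b + w) := by
  have key : ∀ r s : F, r • b + s • w = 0 → r = 0 ∧ s = 0 := by
    intro r s e
    have h := congrArg (B a) e
    rw [map_add, map_smul, map_smul, hab, hw.1, smul_zero, add_zero, map_zero, smul_eq_mul, mul_one] at h
    subst h
    rw [zero_smul, zero_add] at e
    exact ⟨rfl, (smul_eq_zero.1 e).resolve_right hw0⟩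
  constructor
  · intro hm
    obtain ⟨r, hr⟩ := Submodule.mem_span_singleton.1 hm
    exact one_ne_zero (key (1 - r) 1 (by rw [sub_smul, one_smul, one_smul, hr]; abel)).2
  · intro hm
    obtain ⟨r, hr⟩ := Submodule.mem_span_singleton.1 hm
    have := key (r - 1) r (by rw [sub_smul, one_smul]; linear_combination (norm := module) hr)
    rw [this.2, zero_sub, neg_eq_zero] at this
    exact one_ne_zero this.1

variable (hN : NoTrans B L) (hG : Good B L) (S : Setup B L)
include hN hG S

/-- A zero at `a` gives a whole line of zeros at `b`. -/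
theorem zero_line {a b w : V} (hb : Full B L b) (hab : B a b = 1) (hw : w ∈ Wp B a b)
    (h : In B L a w 0) (y : F) : In B L b (y • w) 0 := by
  by_cases hw0 : w = 0
  · exact ⟨1, one_mem L, fun x => by simp [rmap, hw0]⟩
  obtain ⟨k, hk, hkb⟩ := move_partner S.alt hab hw.2 h
  rw [zero_smul, add_zero] at hkb
  have hc : Full B L (b + w) := hkb ▸ hb.conj hk (S.pres k hk)
  have := hG b (b + w) hb hc (by rw [map_add, S.alt.self, hw.2, add_zero]) (wp_indep S.alt hab hw hw0).1
    (wp_indep S.alt hab hw hw0).2 y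
  rwa [smul_add, in_shift_base] at this

theorem zero_cone {a b w : V} (ha : Full B L a) (hb : Full B L b) (hab : B a b = 1) (hw : w ∈ Wp B a b)
    (h : In B L a w 0) (y : F) : In B L a (y • w) 0 := by
  have hba : B b a = 1 := (symm S.alt b a).trans hab
  have := zero_line hN hG S hb hab hw h 1
  rw [one_smul] at this
  exact zero_line hN hG S ha hba ⟨hw.2, hw.1⟩ this y

/-- Only one partner in each translation orbit. -/
theorem partner_unique {a b : V} (ha0 : a ≠ 0) (ha : Full B L a) (hb : Full B L b) (hab : B a b = 1) {t : F}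
    (hb' : Full B L (b + t • a)) : t = 0 := by
  have hB := S.alt
  by_contra ht
  obtain ⟨f, hf1, hf2, hf3⟩ := id ha
  obtain ⟨w, hw, hw0, hwt⟩ := (wp_pair hB hab f hf1 S.dim).1 t ht
  obtain ⟨k, hk, hkb⟩ := move_partner hB hab hw.2 (hf3 w hw.1)
  rw [hwt] at hkb
  have hc : Full B L ((b + t • a) + w) := by
    have := hb.conj hk (S.pres k hk)
    rw [hkb] at this
    rwa [show b + t • a + w = b + w + t • a by abel]
  have hab' : B a (b + t • a) = 1 := by rw [map_add, map_smul, hB.self, smul_zero, add_zero, hab]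
  have hw' : w ∈ Wp B a (b + t • a) :=
    ⟨hw.1, show B (b + t • a) w = 0 by
      rw [map_add, map_smul, LinearMap.add_apply, LinearMap.smul_apply, hw.1, hw.2, smul_zero, add_zero]⟩
  obtain ⟨i1, i2⟩ := wp_indep hB hab' hw' hw0
  have h := hG (b + t • a) ((b + t • a) + w) hb' hc (by rw [map_add, hB.self, hw'.2, add_zero]) i1 i2 1
  rw [one_smul, show (b + t • a) + w = (1 : F) • (b + t • a) + w by rw [one_smul], in_shift_base] at h
  have h2 := zero_line hN hG S ha ((symm hB _ a).trans hab') ⟨hw'.2, hw'.1⟩ h 1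
  rw [one_smul] at h2
  exact ht ((in_unique hB hN ha0 ha hw.1 (hwt ▸ hf3 w hw.1) h2))

/-- The section at `a` is a quadratic form on the orthogonal space of a pair, and equals the section at `b`. -/
theorem quad_on_wp {a b : V} (ha0 : a ≠ 0) (hb0 : b ≠ 0) (ha : Full B L a) (hb : Full B L b) (hab : B a b = 1)
    {f d : V → F} (hf : ∀ v w, B a v = 0 → B a w = 0 → f (v + w) = f v + f w + B v w)
    (hf3 : ∀ v, B a v = 0 → In B L a v (f v)) (hd : ∀ v w, B b v = 0 → B b w = 0 → d (v + w) = d v + d w + B v w)
    (hd3 : ∀ v, B b v = 0 → In B L b v (d v)) :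
    ∀ w ∈ Wp B a b, (∀ s : F, f (s • w) = s ^ 2 * f w) ∧ d w = f w := by
  have hB := S.alt
  have hba : B b a = 1 := (symm hB b a).trans hab
  by_cases hZ : ∃ z ∈ Wp B a b, z ≠ 0 ∧ f z = 0
  · obtain ⟨z, hz, hz0, hfz⟩ := hZ
    have hcone : ∀ w ∈ Wp B a b, f w = 0 → ∀ s : F, f (s • w) = 0 ∧ d (s • w) = 0 := by
      intro w hw hfw s
      have h : In B L a w 0 := hfw ▸ hf3 w hw.1
      have hs : s • w ∈ Wp B a b := Submodule.smul_mem _ s hw
      exact ⟨in_unique hB hN ha0 ha hs.1 (hf3 _ hs.1) (zero_cone hN hG S ha hb hab hw h s),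
        in_unique hB hN hb0 hb hs.2 (hd3 _ hs.2) (zero_line hN hG S hb hab hw h s)⟩
    -- an additive function killing the zeros vanishes
    have kill : ∀ D : V → F, (∀ v ∈ Wp B a b, ∀ w ∈ Wp B a b, D (v + w) = D v + D w) →
        (∀ w ∈ Wp B a b, f w = 0 → D w = 0) → ∀ w ∈ Wp B a b, D w = 0 := by
      intro D hD hD0
      have main : ∀ w ∈ Wp B a b, B w z ≠ 0 → D w = 0 := by
        intro w hw hwz
        obtain ⟨c, hc⟩ : ∃ c, c = f w / B w z := ⟨_, rfl⟩
        have hcz : c • z ∈ Wp B a b := Submodule.smul_mem _ c hz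
        have hzero : f (w + c • z) = 0 := by
          rw [hf _ _ hw.1 hcz.1, (hcone z hz hfz c).1, map_smul, smul_eq_mul, hc, div_mul_cancel₀ _ hwz, add_zero,
            CharTwo.add_self_eq_zero]
        have h1 := hD0 _ (Submodule.add_mem _ hw hcz) hzero
        rwa [hD _ hw _ hcz, hD0 _ hcz (hcone z hz hfz c).1, add_zero] at h1
      intro w hw
      by_cases hwz : B w z = 0
      · obtain ⟨u, hu, huz⟩ : ∃ u ∈ Wp B a b, B u z ≠ 0 := by
          by_contra hcon
          push Not at hcon
          refine hz0 (hB.nondeg z fun x => ?_)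
          have h1 := hcon _ (split hB hab x)
          have hza : B a z = 0 := hz.1
          have hzb : B b z = 0 := hz.2
          simp only [map_add, map_smul, LinearMap.add_apply, LinearMap.smul_apply, hza, hzb, smul_zero,
            add_zero] at h1
          rw [symm hB]; exact h1
        have h1 := main (w + u) (Submodule.add_mem _ hw hu) (by rw [map_add, LinearMap.add_apply, hwz, zero_add]; exact huz)
        rwa [hD _ hw _ hu, main u hu huz, add_zero] at h1
      · exact main w hw hwz
    intro w hw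
    refine ⟨fun s => ?_, ?_⟩
    · refine CharTwo.add_eq_zero.1 (kill (fun x => f (s • x) + s ^ 2 * f x) (fun v hv w hw => ?_)
        (fun x hx hfx => by simp only [(hcone x hx hfx s).1, hfx, mul_zero, add_zero]) w hw)
      simp only [smul_add, hf _ _ hv.1 hw.1, hf _ _ (Submodule.smul_mem _ s hv).1 (Submodule.smul_mem _ s hw).1,
        map_smul, LinearMap.smul_apply, smul_eq_mul]
      linear_combination (s ^ 2 * B v w) * (CharTwo.two_eq_zero (R := F))
    · refine CharTwo.add_eq_zero.1 (kill (fun x => d x + f x) (fun v hv w hw => ?_) (fun x hx hfx => ?_) w hw)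
      · simp only [hd _ _ hv.2 hw.2, hf _ _ hv.1 hw.1]
        linear_combination (B v w) * (CharTwo.two_eq_zero (R := F))
      · have := (hcone x hx hfx 1).2
        rw [one_smul] at this
        simp only [this, hfx, add_zero]
  -- no zeros: inversion
  push Not at hZ
  have hd0 : ∀ w ∈ Wp B a b, w ≠ 0 → d w ≠ 0 := fun w hw hw0 e => by
    have := zero_line hN hG S ha hba ⟨hw.2, hw.1⟩ (e ▸ hd3 w hw.2) 1
    rw [one_smul] at this
    exact hZ w hw hw0 (in_unique hB hN ha0 ha hw.1 (hf3 w hw.1) this)
  have hinv : ∀ w ∈ Wp B a b, w ≠ 0 → f ((d w)⁻¹ • w) = (d w)⁻¹ := by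
    intro w hw hw0
    obtain ⟨k, hk, hka⟩ := move_partner hB hba hw.1 (hd3 w hw.2)
    have hD := hd0 w hw hw0
    have hfull : Full B L ((d w)⁻¹ • (a + w + d w • b)) :=
      (hka ▸ ha.conj hk (S.pres k hk)).smul (inv_ne_zero hD)
    have hs : (d w)⁻¹ • w ∈ Wp B a b := Submodule.smul_mem _ _ hw
    obtain ⟨g, hg, hgb⟩ := move_partner hB hab hs.2 (hf3 _ hs.1)
    have hb1 : Full B L (b + (d w)⁻¹ • w + f ((d w)⁻¹ • w) • a) := hgb ▸ hb.conj hg (S.pres g hg)
    have hab1 : B a (b + (d w)⁻¹ • w + f ((d w)⁻¹ • w) • a) = 1 := by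
      rw [map_add, map_add, map_smul, map_smul, hB.self, hw.1, smul_zero, smul_zero, add_zero, add_zero, hab]
    have h := partner_unique hN hG S ha0 ha hb1 hab1 (t := (d w)⁻¹ + f ((d w)⁻¹ • w)) (by
      convert hfull using 1
      rw [smul_add, smul_add, smul_smul, inv_mul_cancel₀ hD, one_smul, add_smul]
      linear_combination (norm := module) add_self_vec F (f ((d w)⁻¹ • w) • a))
    exact (CharTwo.add_eq_zero.1 h).symm
  haveI : Fintype F := Fintype.ofFinite F
  intro w hw
  by_cases hw0 : w = 0
  · subst hw0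
    have e1 : f 0 = 0 := by
      have := hf 0 0 (map_zero _) (map_zero _)
      simp only [add_zero, map_zero] at this
      exact left_eq_add.1 this
    have e2 : d 0 = 0 := by
      have := hd 0 0 (map_zero _) (map_zero _)
      simp only [add_zero, map_zero] at this
      exact left_eq_add.1 this
    exact ⟨fun s => by rw [smul_zero, e1, mul_zero], e2.trans e1.symm⟩
  have hsw : ∀ s : F, s • w ∈ Wp B a b := fun s => Submodule.smul_mem _ s hw
  have hself : ∀ r s : F, B (r • w) (s • w) = 0 := fun r s => by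
    simp [hB.self]
  have h := hua (fun s => f (s • w)) (fun s => d (s • w))
    (fun x y => by simp only [add_smul, hf _ _ (hsw x).1 (hsw y).1, hself, add_zero])
    (fun x y => by simp only [add_smul, hd _ _ (hsw x).2 (hsw y).2, hself, add_zero])
    (fun s hs => hZ _ (hsw s) (smul_ne_zero hs hw0)) (fun s hs => hd0 _ (hsw s) (smul_ne_zero hs hw0))
    (fun s hs => by
      have := hinv _ (hsw s) (smul_ne_zero hs hw0)
      rw [smul_smul, inv_mul_eq_div] at this
      rw [this, one_div])
  simp only [one_smul] at h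
  refine ⟨fun s => ?_, by have := (h 1).2; rw [one_smul] at this; exact this.symm⟩
  have h1 := (h 1).2
  rw [one_smul] at h1
  rw [(h s).2, (h s).1, h1]
  ring

/-- The invariant form. -/
theorem exists_form :
    ∃ Q : QuadraticForm F V, (∀ u v, polar Q u v = B u v) ∧ (∀ g ∈ L, ∀ x, Q (g x) = Q x) ∧
      ∀ e v, e ≠ 0 → Q e = 0 → B e v = 0 → In B L e v (Q v) := by
  have hB := S.alt
  obtain ⟨a, ha0, ha⟩ := S.start
  obtain ⟨κ, g, hg, hκ, hab, hb⟩ := S.partner ha0 ha
  obtain ⟨b, hbdef⟩ : ∃ b, b = κ • g a := ⟨_, rfl⟩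
  rw [← hbdef] at hab hb
  have hba : B b a = 1 := (symm hB b a).trans hab
  have hb0 : b ≠ 0 := fun e => one_ne_zero (by rw [← hab, e, map_zero])
  obtain ⟨f, hf1, hf2, hf3⟩ := id ha
  obtain ⟨d, hd1, -, hd3⟩ := id hb
  have hquad := quad_on_wp hN hG S ha0 hb0 ha hb hab hf1 hf3 hd1 hd3
  obtain ⟨π, hπ⟩ : ∃ π : V → V, ∀ x, π x = x + B x b • a + B x a • b := ⟨_, fun x => rfl⟩
  have hπW : ∀ x, π x ∈ Wp B a b := fun x => hπ x ▸ split hB hab x
  have hπadd : ∀ x y, π (x + y) = π x + π y := fun x y => by
    simp only [hπ, map_add, LinearMap.add_apply, add_smul]; abel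
  have hπsmul : ∀ (c : F) x, π (c • x) = c • π x := fun c x => by
    simp only [hπ, map_smul, LinearMap.smul_apply, smul_eq_mul, smul_add, mul_smul]
  let Qf : V → F := fun x => B x b * B x a + f (π x)
  have hpol : ∀ x y, polar Qf x y = B x y := by
    intro x y
    simp only [polar, Qf, hπadd, hf1 _ _ (hπW x).1 (hπW y).1, map_add, LinearMap.add_apply]
    have e : B (π x) (π y) = B x y + B x a * B y b + B x b * B y a := by
      simp only [hπ, map_add, map_smul, LinearMap.add_apply, LinearMap.smul_apply, smul_eq_mul, hB.self, hab, hba,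
        symm hB a y, symm hB b y]
      linear_combination (B x a * B y b + B x b * B y a) * (CharTwo.two_eq_zero (R := F))
    rw [e]
    linear_combination (B x a * B y b + B x b * B y a) * (CharTwo.two_eq_zero (R := F))
  let Q : QuadraticForm F V := QuadraticMap.ofPolar Qf
    (fun c x => by
      simp only [Qf, hπsmul, map_smul, LinearMap.smul_apply, smul_eq_mul, (hquad _ (hπW x)).1]
      ring)
    (fun x y z => by simp only [hpol, map_add, LinearMap.add_apply])
    (fun c x y => by simp only [hpol, map_smul, LinearMap.smul_apply])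
  have hQ : ∀ x, Q x = B x b * B x a + f (π x) := fun x => rfl
  -- sections are singular
  have hsing : ∀ u, Full B L u → Q u = 0 := by
    intro u hu
    rw [hQ]
    by_cases hua : B u a = 0
    · have hau : B a u = 0 := (symm hB a u).trans hua
      rw [hua, mul_zero, zero_add, hπ, hua, zero_smul, add_zero]
      by_cases hm : u ∈ F ∙ a
      · obtain ⟨r, rfl⟩ := Submodule.mem_span_singleton.1 hm
        rw [map_smul, LinearMap.smul_apply, hab, ← add_smul, hf2]
      have hm' : a ∉ F ∙ u := fun h => by
        obtain ⟨r, hr⟩ := Submodule.mem_span_singleton.1 h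
        have hr0 : r ≠ 0 := fun e => ha0 (by rw [← hr, e, zero_smul])
        exact hm (Submodule.mem_span_singleton.2 ⟨r⁻¹, by rw [← hr, inv_smul_smul₀ hr0]⟩)
      have h := hG a u ha hu hau hm hm' 1
      rw [one_smul, ← in_shift_iff (r := B u b)] at h
      have hv : B a (u + B u b • a) = 0 := by rw [map_add, map_smul, hau, hB.self, smul_zero, add_zero]
      exact in_unique hB hN ha0 ha hv (hf3 _ hv) h
    · obtain ⟨u', hu'⟩ : ∃ u', u' = (B u a)⁻¹ • u := ⟨_, rfl⟩
      have hu'F : Full B L u' := hu' ▸ hu.smul (inv_ne_zero hua)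
      have h1 : B u' a = 1 := by rw [hu', map_smul, LinearMap.smul_apply, smul_eq_mul, inv_mul_cancel₀ hua]
      have hw := hπW u'
      obtain ⟨k, hk, hkb⟩ := move_partner hB hab hw.2 (hf3 _ hw.1)
      have hb1 : Full B L (b + π u' + f (π u') • a) := hkb ▸ hb.conj hk (S.pres k hk)
      have hab1 : B a (b + π u' + f (π u') • a) = 1 := by
        rw [map_add, map_add, map_smul, hB.self, hw.1, smul_zero, add_zero, add_zero, hab]
      have h := partner_unique hN hG S ha0 ha hb1 hab1 (t := B u' b + f (π u')) (by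
        convert hu'F using 1
        rw [hπ, h1, one_smul]
        linear_combination (norm := module) add_self_vec F b + add_self_vec F (B u' b • a) +
          add_self_vec F (f (u' + B u' b • a + b) • a))
      have e : B u' b * B u' a + f (π u') = 0 := by rw [h1, mul_one]; exact h
      have e2 : u = B u a • u' := by rw [hu', smul_inv_smul₀ hua]
      rw [e2, hπsmul, (hquad _ hw).1, map_smul, LinearMap.smul_apply, LinearMap.smul_apply, smul_eq_mul, smul_eq_mul]
      linear_combination (B u a) ^ 2 * e
  -- invariance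
  have hinv : ∀ k ∈ L, ∀ x, Q (k x) = Q x := by
    intro k hk x
    obtain ⟨W, hW⟩ : ∃ W : Submodule F V, W = Submodule.span F {u | Full B L u} := ⟨_, rfl⟩
    have htop : W = ⊤ := by
      refine (S.irr W fun m hm w hw => ?_).resolve_left fun e => ha0 ?_
      · subst hW
        induction hw using Submodule.span_induction with
        | mem x hx => exact Submodule.subset_span (Full.conj hx hm (S.pres m hm))
        | zero => rw [map_zero]; exact Submodule.zero_mem _
        | add x y _ _ hx hy => rw [map_add]; exact Submodule.add_mem _ hx hy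
        | smul c x _ hx => rw [map_smul]; exact Submodule.smul_mem _ c hx
      · have : a ∈ W := hW ▸ Submodule.subset_span ha
        rwa [e, Submodule.mem_bot] at this
    have hadd : ∀ x y, Q (x + y) = Q x + Q y + B x y := fun x y => by
      rw [QuadraticMap.map_add Q, show polar Q x y = B x y from hpol x y]
    have hx : x ∈ W := htop ▸ Submodule.mem_top
    subst hW
    induction hx using Submodule.span_induction with
    | mem x hx => rw [hsing x hx, hsing _ (Full.conj hx hk (S.pres k hk))]
    | zero => rw [map_zero]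
    | add x y _ _ hx hy => rw [map_add, hadd, hadd, hx, hy, S.pres k hk]
    | smul c x _ hx => rw [map_smul, QuadraticMap.map_smul, QuadraticMap.map_smul, hx]
  have hQsm : ∀ (c : F) x, Q (c • x) = c * c * Q x := fun c x => by rw [QuadraticMap.map_smul, smul_eq_mul]
  have hadd : ∀ x y, Q (x + y) = Q x + Q y + B x y := fun x y => by
    rw [QuadraticMap.map_add Q, show polar Q x y = B x y from hpol x y]
  -- radical elements are Siegel elements
  have hsieg : ∀ e v t, e ≠ 0 → Q e = 0 → B e v = 0 → In B L e v t → t = Q v := by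
    intro e v t he hQe hev h
    haveI : FiniteDimensional F V := Module.Finite.of_finite
    obtain ⟨x, -, hx⟩ := exists_sep hB (U := ⊥) (x := e) (by rwa [Submodule.mem_bot]) 1
    obtain ⟨k, hk, hkx⟩ := h.moves x
    have := hinv k hk x
    rw [hkx, hx, one_smul, mul_one] at this
    simp only [hadd, hQsm, hQe, mul_zero, add_zero, map_add, map_smul, LinearMap.add_apply, LinearMap.smul_apply,
      smul_eq_mul, hx, symm hB v e, hev, hB.self] at this
    exact CharTwo.add_eq_zero.1 (by linear_combination this - (B x v) * (CharTwo.two_eq_zero (R := F)))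
  -- all singular points carry sections
  have key : ∀ a b : V, B a b = 1 → a ≠ 0 → Full B L a → Full B L b → ∀ u, Q u = 0 → B u a ≠ 0 → Full B L u := by
    intro a b hab ha0 ha hb u hu hua
    obtain ⟨u', hu'⟩ : ∃ u', u' = (B u a)⁻¹ • u := ⟨_, rfl⟩
    have h1 : B u' a = 1 := by rw [hu', map_smul, LinearMap.smul_apply, smul_eq_mul, inv_mul_cancel₀ hua]
    obtain ⟨w, hwdef⟩ : ∃ w, w = u' + B u' b • a + B u' a • b := ⟨_, rfl⟩
    have hw : w ∈ Wp B a b := hwdef ▸ split hB hab u'
    obtain ⟨t, ht⟩ := ha.exists_in hw.1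
    obtain ⟨k, hk, hkb⟩ := move_partner hB hab hw.2 ht
    have ht' := hsieg a w t ha0 (hsing a ha) hw.1 ht
    have hQu' : Q u' = 0 := by rw [hu', hQsm, hu, mul_zero]
    have hQw : Q w = B u' b := by
      rw [hwdef]
      simp only [hadd, hQsm, hsing a ha, hsing b hb, map_add, map_smul, LinearMap.add_apply, LinearMap.smul_apply,
        smul_eq_mul, hab, h1, hQu']
      linear_combination (B u' b) * (CharTwo.two_eq_zero (R := F))
    have e : k b = u' := by
      rw [hkb, ht', hQw, hwdef, h1, one_smul]
      linear_combination (norm := module) add_self_vec F b + add_self_vec F (B u' b • a)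
    have := (hb.conj hk (S.pres k hk))
    rw [e] at this
    have h2 := this.smul hua
    rwa [hu', smul_inv_smul₀ hua] at h2
  refine ⟨Q, fun u v => hpol u v, hinv, fun e v he hQe hev => ?_⟩
  suffices hfull : Full B L e by
    obtain ⟨t, ht⟩ := hfull.exists_in hev
    exact hsieg e v t he hQe hev ht ▸ ht
  by_cases h1 : B e a ≠ 0
  · exact key a b hab ha0 ha hb e hQe h1
  by_cases h2 : B e b ≠ 0
  · exact key b a hba hb0 hb ha e hQe h2
  push Not at h1 h2
  obtain ⟨z, hz⟩ : ∃ z, B e z ≠ 0 := by
    by_contra hcon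
    push Not at hcon
    exact he (hB.nondeg e hcon)
  obtain ⟨w, hwdef⟩ : ∃ w, w = z + B z b • a + B z a • b := ⟨_, rfl⟩
  have hw : w ∈ Wp B a b := hwdef ▸ split hB hab z
  have hew : B e w = B e z := by
    rw [hwdef, map_add, map_add, map_smul, map_smul, h1, h2, smul_zero, smul_zero, add_zero, add_zero]
  obtain ⟨k, hk, hke⟩ := (hf3 w hw.1).moves e
  rw [h1, hew, zero_smul, add_zero, mul_zero, zero_smul, add_zero] at hke
  have h3 := key b a hba hb0 hb ha (k e) (by rw [hinv k hk, hQe]) (by
    rw [hke, map_add, map_smul, LinearMap.add_apply, LinearMap.smul_apply, h2, hab, zero_add, smul_eq_mul, mul_one]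
    exact hz)
  have h4 := h3.conj (inv_mem hk) (S.pres _ (inv_mem hk))
  rwa [show k⁻¹ (k e) = e from k.symm_apply_apply e] at h4

end Cfsg.Agent.Classical.SpRad
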