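/-
A group of isometries containing every Siegel element, characteristic two.
-/
import Cfsg.Agent.Lib.Classical.SpRadical.Quad
import Cfsg.Agent.Lib.Small.Orth.Words
import Cfsg.Agent.Lib.Classical.OrthOmega

set_option autoImplicit false
set_option linter.unusedSectionVars false

namespace Cfsg.Agent.Classical.SpRad

open Module QuadraticMap
open Cfsg.Agent.Classical Cfsg.Agent.Classical.OCount Cfsg.Agent.Classical.ORefl Cfsg.Agent.Classical.OOmega

universe u v

variable {F : Type u} [Field F] [CharP F 2] [Finite F] {V : Type v} [AddCommGroup V] [Module F V]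
  [FiniteDimensional F V] {Q : QuadraticForm F V}

variable (Q) in
/-- The Siegel transformations as isometries. -/
def siegelSet : Set ↥(Iso Q) :=
  {s | ∃ (e v : V) (he : Q e = 0) (hv : polar Q e v = 0), s.1 = siegel he hv}

variable (Q) in
/-- Adjoining a hyperbolic plane. -/
noncomputable def ext' : QuadraticForm F (V × (F × F)) :=
  QuadraticMap.prod Q (QuadraticMap.linMulLin (LinearMap.fst F F F) (LinearMap.snd F F F))

theorem ext'_apply (x : V × (F × F)) : ext' Q x = Q x.1 + x.2.1 * x.2.2 := rfl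

theorem ext'_polar (x y : V × (F × F)) :
    polar (ext' Q) x y = polar Q x.1 y.1 + (x.2.1 * y.2.2 + y.2.1 * x.2.2) := by
  simp only [polar, ext'_apply, Prod.fst_add, Prod.snd_add]
  ring

theorem ext'_pnd (hQ : PND Q) : PND (ext' Q) := by
  intro x hx
  refine Prod.ext (hQ _ fun w => ?_) (Prod.ext ?_ ?_)
  · have := hx (w, (0, 0))
    simpa [ext'_polar] using this
  · have := hx (0, (0, 1))
    simpa [ext'_polar, polar_zero_right] using this
  · have := hx (0, (1, 0))
    simpa [ext'_polar, polar_zero_right] using this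

/-- An isometry extends by the identity. -/
noncomputable def lift' : ↥(Iso Q) →* ↥(Iso (ext' Q)) where
  toFun g := ⟨g.1.prodCongr (LinearEquiv.refl F (F × F)), fun x => by
    rw [ext'_apply, ext'_apply]
    exact congrArg (· + x.2.1 * x.2.2) (g.2 x.1)⟩
  map_one' := Subtype.ext (LinearEquiv.ext fun x => rfl)
  map_mul' g h := Subtype.ext (LinearEquiv.ext fun x => rfl)

theorem lift'_rank (g : ↥(Iso Q)) :
    finrank F (LinearMap.range (((lift' g).1 : V × (F × F) →ₗ[F] V × (F × F)) - 1)) =
      finrank F (LinearMap.range ((g.1 : V →ₗ[F] V) - 1)) := by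
  have e : LinearMap.range (((lift' g).1 : V × (F × F) →ₗ[F] V × (F × F)) - 1) =
      (LinearMap.range ((g.1 : V →ₗ[F] V) - 1)).map (LinearMap.inl F V (F × F)) := by
    ext x
    constructor
    · rintro ⟨y, rfl⟩
      exact ⟨g.1 y.1 - y.1, ⟨y.1, rfl⟩, Prod.ext rfl (sub_self y.2).symm⟩
    · rintro ⟨_, ⟨y, rfl⟩, rfl⟩
      exact ⟨(y, 0), Prod.ext rfl (sub_self (0 : F × F))⟩
  rw [e]
  exact ((Submodule.equivMapOfInjective _ LinearMap.inl_injective _).finrank_eq).symm

/-- Products of Siegel elements move an even-dimensional space. -/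
theorem even_of_siegel (hQ : PND Q) (h2 : 4 ≤ finrank F V) {g : ↥(Iso Q)}
    (hg : g ∈ Subgroup.closure (siegelSet Q)) :
    Even (finrank F (LinearMap.range ((g.1 : V →ₗ[F] V) - 1))) := by
  obtain ⟨vs, hvs, hlen, he⟩ : ∃ vs : List (V × (F × F)), (∀ v ∈ vs, ext' Q v ≠ 0) ∧ Even vs.length ∧
      Small.Orth.prodRf (ext' Q) vs = lift' g := by
    induction hg using Subgroup.closure_induction with
    | mem s hs =>
      obtain ⟨e, v, he, hv, hse⟩ := hs
      have he' : ext' Q (e, (0, 0)) = 0 := by rw [ext'_apply]; simpa using he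
      have hv' : polar (ext' Q) (e, (0, 0)) (v, (0, 0)) = 0 := by rw [ext'_polar]; simpa using hv
      obtain ⟨vs, h1, h2', h3, -⟩ := Small.Orth.siegel_list (ext'_pnd hQ)
        (Or.inr (by rw [finrank_prod, finrank_prod, finrank_self]; omega)) he' hv'
      refine ⟨vs, h1, h3, h2'.trans (Subtype.ext (LinearEquiv.ext fun x => ?_))⟩
      show siegel he' hv' x = (s.1 x.1, x.2)
      rw [hse, siegel_apply, siegel_apply, ext'_polar, ext'_polar, ext'_apply]
      ext <;> simp
    | one => exact ⟨[], by simp, ⟨0, rfl⟩, by rw [Small.Orth.prodRf_nil, map_one]⟩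
    | mul x y _ _ hx hy =>
      obtain ⟨vs, h1, h2', h3⟩ := hx
      obtain ⟨ws, h1', h2'', h3'⟩ := hy
      exact ⟨vs ++ ws, fun w hw => (List.mem_append.1 hw).elim (h1 w) (h1' w),
        by rw [List.length_append]; exact h2'.add h2'', by rw [Small.Orth.prodRf_append, h3, h3', map_mul]⟩
    | inv x _ hx =>
      obtain ⟨vs, h1, h2', h3⟩ := hx
      exact ⟨vs.reverse, fun w hw => h1 w (List.mem_reverse.1 hw), by rwa [List.length_reverse],
        by rw [Small.Orth.prodRf_reverse, h3, map_inv]⟩
  rw [← lift'_rank, ← he]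
  exact (Small.Orth.even_rank_iff (ext'_pnd hQ) vs hvs).2 hlen

/-- A group containing every Siegel element is the whole group or the even part. -/
theorem iso_cases (hQ : PND Q) (h2 : 4 ≤ finrank F V) (M : Subgroup ↥(Iso Q)) (hM : siegelSet Q ⊆ M) :
    M = ⊤ ∨ ∀ g, g ∈ M ↔ Even (finrank F (LinearMap.range ((g.1 : V →ₗ[F] V) - 1))) := by
  classical
  haveI : Finite V := Module.finite_of_finite F
  haveI : Fintype F := Fintype.ofFinite F
  obtain ⟨R, hR⟩ : ∃ R, R = Subgroup.closure (siegelSet Q) := ⟨_, rfl⟩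
  obtain ⟨u₀, hu₀⟩ : ∃ u, Q u = 1 := by
    obtain ⟨u, hu⟩ : ∃ u, Q u ≠ 0 := by
      by_contra hcon
      push Not at hcon
      have hpos : 0 < finrank F V := by omega
      obtain ⟨x, hx⟩ := (Module.finrank_pos_iff_exists_ne_zero (R := F)).1 hpos
      exact hx (hQ x fun w => by simp [polar, hcon])
    obtain ⟨r, hr⟩ := FiniteField.isSquare_of_char_two (ringChar.eq F 2) (Q u)⁻¹
    exact ⟨r • u, by rw [QuadraticMap.map_smul, smul_eq_mul, ← hr, inv_mul_cancel₀ hu]⟩
  -- products of two reflections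
  have hsib : ∀ x y, Q x = 1 → Q y = 1 → polar Q x y = 0 → rf Q x * rf Q y ∈ R := by
    intro x y hx hy hxy
    have he : Q (y + x) = 0 := by rw [QuadraticMap.map_add Q, hx, hy, polar_comm, hxy, add_zero, CharTwo.add_self_eq_zero]
    have hv : polar Q (y + x) y = 0 := by
      rw [polar_add_left, hxy, add_zero, polar_self_two, CharTwo.two_eq_zero, zero_mul]
    have hy0 : Q y ≠ 0 := by rw [hy]; exact one_ne_zero
    rw [hR]
    refine Subgroup.subset_closure ⟨y + x, y, he, hv, ?_⟩
    rw [(siegel_eq_refl he hv hy0).1, hy, one_smul]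
    show refl Q x * refl Q y = _
    congr 2
    rw [sub_eq_add_neg, ← neg_one_smul F (y + x), CharTwo.neg_eq, one_smul, ← add_assoc, add_self_vec F, zero_add]
  have hpair : ∀ x, Q x = 1 → rf Q x * rf Q u₀ ∈ R := by
    intro x hx
    obtain ⟨z, hz, hzx, hzu⟩ : ∃ z, Q z = 1 ∧ polar Q x z = 0 ∧ polar Q u₀ z = 0 := by
      let φ : V →ₗ[F] F × F := (Q.polarBilin x).prod (Q.polarBilin u₀)
      obtain ⟨z, hzk, hz⟩ : ∃ z ∈ LinearMap.ker φ, Q z ≠ 0 := by
        by_contra hcon
        push Not at hcon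
        have hts : LinearMap.ker φ ≤ LinearMap.BilinForm.orthogonal Q.polarBilin (LinearMap.ker φ) :=
          fun z hz w hw => by
            show polar Q w z = 0
            simp [polar, hcon w hw, hcon z hz, hcon _ (Submodule.add_mem _ hw hz)]
        have hd := LinearMap.BilinForm.finrank_orthogonal (B := Q.polarBilin) (nondeg hQ) (LinearMap.ker φ)
        have h3 := φ.finrank_range_add_finrank_ker
        have h4 := Submodule.finrank_le (LinearMap.range φ)
        rw [finrank_prod, finrank_self] at h4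
        have hle := Submodule.finrank_mono hts
        have heq : LinearMap.ker φ = LinearMap.BilinForm.orthogonal Q.polarBilin (LinearMap.ker φ) :=
          Submodule.eq_of_le_of_finrank_eq hts (by omega)
        have hu : u₀ ∈ LinearMap.BilinForm.orthogonal Q.polarBilin (LinearMap.ker φ) := fun w hw => by
          show polar Q w u₀ = 0
          rw [polar_comm]; exact congrArg Prod.snd (LinearMap.mem_ker.1 hw)
        rw [← heq] at hu
        exact one_ne_zero (hu₀ ▸ hcon u₀ hu)
      obtain ⟨r, hr⟩ := FiniteField.isSquare_of_char_two (ringChar.eq F 2) (Q z)⁻¹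
      have hk := LinearMap.mem_ker.1 hzk
      refine ⟨r • z, by rw [QuadraticMap.map_smul, smul_eq_mul, ← hr, inv_mul_cancel₀ hz], ?_, ?_⟩
      · rw [polar_smul_right, show polar Q x z = 0 from congrArg Prod.fst hk, smul_zero]
      · rw [polar_smul_right, show polar Q u₀ z = 0 from congrArg Prod.snd hk, smul_zero]
    have h := mul_mem (hsib x z hx hz hzx) (hsib z u₀ hz hu₀ (by rw [polar_comm, hzu]))
    rwa [mul_assoc, ← mul_assoc (rf Q z), rf_mul_self, one_mul] at h
  haveI hRn : R.Normal := by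
    rw [hR]
    refine ⟨fun n hn g => ?_⟩
    induction hn using Subgroup.closure_induction with
    | mem s hs =>
      obtain ⟨e, v, he, hv, hse⟩ := hs
      refine Subgroup.subset_closure ⟨g.1 e, g.1 v, (g.2 e).trans he, (polar_iso g.2 e v).trans hv, ?_⟩
      show g.1 * s.1 * g.1⁻¹ = _
      rw [hse]
      exact conj_siegel g.2 he hv
    | one => rw [mul_one, mul_inv_cancel]; exact one_mem _
    | mul x y _ _ hx hy =>
      have := mul_mem hx hy
      rwa [show g * x * g⁻¹ * (g * y * g⁻¹) = g * (x * y) * g⁻¹ by group] at this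
    | inv x _ hx =>
      have := inv_mem hx
      rwa [show (g * x * g⁻¹)⁻¹ = g * x⁻¹ * g⁻¹ by group] at this
  -- every isometry lies in `R` or in its other coset
  have hcov : ∀ g : ↥(Iso Q), g ∈ R ∨ g * rf Q u₀ ∈ R := by
    intro g
    have hrr : ∀ x, rf Q u₀ * x * rf Q u₀ ∈ R ↔ x ∈ R := fun x => by
      have key : ∀ y, y ∈ R → rf Q u₀ * y * rf Q u₀ ∈ R := fun y hy => by
        have := hRn.conj_mem y hy (rf Q u₀)
        rwa [rf_inv] at this
      refine ⟨fun h => ?_, key x⟩
      have := key _ h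
      rwa [← mul_assoc, ← mul_assoc, rf_mul_self, one_mul, mul_assoc, rf_mul_self, mul_one] at this
    let S : Subgroup ↥(Iso Q) :=
      { carrier := {g | g ∈ R ∨ g * rf Q u₀ ∈ R}
        one_mem' := Or.inl (one_mem R)
        mul_mem' := by
          rintro x y (hx | hx) (hy | hy)
          · exact Or.inl (mul_mem hx hy)
          · exact Or.inr (by rw [mul_assoc]; exact mul_mem hx hy)
          · refine Or.inr ?_
            have := mul_mem hx ((hrr y).2 hy)
            rwa [show x * rf Q u₀ * (rf Q u₀ * y * rf Q u₀) = x * y * rf Q u₀ by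
              rw [mul_assoc x, ← mul_assoc (rf Q u₀), ← mul_assoc (rf Q u₀), rf_mul_self, one_mul, mul_assoc]] at this
          · refine Or.inl ?_
            have := mul_mem hx ((hrr _).2 hy)
            rwa [show x * rf Q u₀ * (rf Q u₀ * (y * rf Q u₀) * rf Q u₀) = x * y by
              simp [mul_assoc, rf_mul_self, ← mul_assoc (rf Q u₀) (rf Q u₀)]] at this
        inv_mem' := by
          rintro x (hx | hx)
          · exact Or.inl (inv_mem hx)
          · refine Or.inr ?_
            have := (hrr _).2 (inv_mem hx)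
            rwa [show rf Q u₀ * (x * rf Q u₀)⁻¹ * rf Q u₀ = x⁻¹ * rf Q u₀ by
              rw [_root_.mul_inv_rev, rf_inv, ← mul_assoc (rf Q u₀), rf_mul_self, one_mul]] at this }
    have h := mem_of_refl_siegel hQ (S.map (Iso Q).subtype) (fun v hv => ?_) (fun e v he hv _ => ?_) g.1 g.2
    · obtain ⟨k, hk, hke⟩ := Subgroup.mem_map.1 h
      rwa [← Subtype.ext hke]
    · obtain ⟨r, hr⟩ := FiniteField.isSquare_of_char_two (ringChar.eq F 2) (Q v)⁻¹
      have hr0 : r ≠ 0 := fun e => inv_ne_zero hv (by rw [hr, e, mul_zero])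
      refine Subgroup.mem_map.2 ⟨rf Q v, Or.inr ?_, rfl⟩
      rw [← rf_smul hr0 v]
      exact hpair _ (by rw [QuadraticMap.map_smul, smul_eq_mul, ← hr, inv_mul_cancel₀ hv])
    · exact Subgroup.mem_map.2 ⟨⟨siegel he hv, siegel_mem he hv⟩,
        Or.inl (hR ▸ Subgroup.subset_closure ⟨e, v, he, hv, rfl⟩), rfl⟩
  have hev : ∀ g, g ∈ R → Even (finrank F (LinearMap.range ((g.1 : V →ₗ[F] V) - 1))) := fun g hg =>
    even_of_siegel hQ h2 (hR ▸ hg)
  have hu0 : Q u₀ ≠ 0 := by rw [hu₀]; exact one_ne_zero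
  have hodd : ∀ g, g * rf Q u₀ ∈ R → ¬ Even (finrank F (LinearMap.range ((g.1 : V →ₗ[F] V) - 1))) := by
    intro g hg
    have h1 : rf Q u₀ * g ∈ R := by
      have := hRn.conj_mem _ hg (rf Q u₀)
      rwa [rf_inv, mul_assoc, mul_assoc, rf_mul_self, mul_one] at this
    exact (Small.Orth.even_rank_step hQ g hu0).1 (hev _ h1)
  have hRM : R ≤ M := hR ▸ (Subgroup.closure_le _).2 hM
  by_cases hall : ∀ g ∈ M, g ∈ R
  · refine Or.inr fun g => ⟨fun hg => hev g (hall g hg), fun hg => hRM ((hcov g).resolve_right fun h => hodd g h hg)⟩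
  · push Not at hall
    obtain ⟨g, hgM, hgR⟩ := hall
    refine Or.inl (eq_top_iff.2 fun h _ => ?_)
    have hr : rf Q u₀ ∈ M := by
      have := mul_mem (inv_mem hgM) (hRM ((hcov g).resolve_left hgR))
      rwa [inv_mul_cancel_left] at this
    rcases hcov h with hh | hh
    · exact hRM hh
    · have := mul_mem (hRM hh) hr
      rwa [mul_assoc, rf_mul_self, mul_one] at this

end Cfsg.Agent.Classical.SpRad
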