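/-
The radical of a vector stabiliser, characteristic two.
-/
import Cfsg.Agent.Lib.Classical.SpRadical.Cases
import Cfsg.Agent.Lib.Solv.Cores

set_option autoImplicit false
set_option linter.unusedSectionVars false

namespace Cfsg.Agent.Classical.SpRad

open Module

universe u v

variable {F : Type u} [Field F] [CharP F 2] {V : Type v} [AddCommGroup V] [Module F V] [Finite V]
  {B : V →ₗ[F] V →ₗ[F] F}

/-- A radical map as an equivalence. -/
def rEquiv (hB : SpCount.IsAltND B) {a v : V} (hv : B a v = 0) (t : F) : V ≃ₗ[F] V where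
  toFun := rmap B a v t
  map_add' x y := by simp only [rmap, map_add, LinearMap.add_apply]; module
  map_smul' c x := by simp only [rmap, map_smul, LinearMap.smul_apply, RingHom.id_apply, smul_eq_mul]; module
  invFun := rmap B a v t
  left_inv x := by
    simp only [rmap_comp hB hv hv, add_self_vec F, hB.self, add_zero, CharTwo.add_self_eq_zero]
    simp [rmap]
  right_inv x := by
    simp only [rmap_comp hB hv hv, add_self_vec F, hB.self, add_zero, CharTwo.add_self_eq_zero]
    simp [rmap]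

theorem rEquiv_apply (hB : SpCount.IsAltND B) {a v : V} (hv : B a v = 0) (t : F) (x : V) :
    rEquiv hB hv t x = rmap B a v t x := rfl

theorem rmap_iso (hB : SpCount.IsAltND B) {a v : V} (hv : B a v = 0) (t : F) (x y : V) :
    B (rmap B a v t x) (rmap B a v t y) = B x y := by
  simp only [rmap, map_add, map_smul, LinearMap.add_apply, LinearMap.smul_apply, smul_eq_mul, hB.self, hv,
    symm hB v a, symm hB a y, symm hB v y]
  linear_combination (B x a * B y v + B x v * B y a + t * B x a * B y a) * (CharTwo.two_eq_zero (R := F))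

/-- A normal `2`-subgroup of the stabiliser of `a` consists of radical maps. -/
theorem exists_rmap [FiniteDimensional F V] (hB : SpCount.IsAltND B) {a : V} (ha : a ≠ 0)
    (H : Subgroup (V ≃ₗ[F] V)) (hH : ∀ g, g ∈ H ↔ (∀ x y, B (g x) (g y) = B x y) ∧ g a = a)
    (hdim : 4 ≤ finrank F V) (P : Subgroup ↥H) [P.Normal] (hP : IsPGroup 2 P) {x : ↥H} (hx : x ∈ P) :
    ∃ v t, B a v = 0 ∧ ∀ u, x.1 u = rmap B a v t u := by
  haveI : Fact (Nat.Prime 2) := ⟨Nat.prime_two⟩
  obtain ⟨K, hK⟩ : ∃ K : Submodule F V, K = LinearMap.ker (B a) := ⟨_, rfl⟩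
  have hmem : ∀ u, u ∈ K ↔ B a u = 0 := fun u => by rw [hK]; exact LinearMap.mem_ker
  have hga : ∀ g : ↥H, g.1 a = a := fun g => ((hH g.1).1 g.2).2
  have hgK : ∀ g : ↥H, K ≤ K.comap g.1.toLinearMap := fun g u hu => by
    rw [Submodule.mem_comap, hmem, show g.1.toLinearMap u = g.1 u from rfl]
    have := ((hH g.1).1 g.2).1 a u
    rw [hga g, (hmem u).1 hu] at this
    exact this
  let N : Submodule F ↥K := (F ∙ a).comap K.subtype
  let ρ : ↥H → ↥K →ₗ[F] ↥K := fun g => g.1.toLinearMap.restrict (hgK g)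
  have hN : ∀ g : ↥H, N ≤ N.comap (ρ g) := fun g u hu => by
    obtain ⟨r, hr⟩ := Submodule.mem_span_singleton.1 (show (u : V) ∈ F ∙ a from hu)
    exact Submodule.mem_span_singleton.2 ⟨r, show r • a = g.1 (u : V) by rw [← hr, map_smul, hga g]⟩
  letI act : MulAction ↥P (↥K ⧸ N) :=
    { smul := fun g u => N.mapQ N (ρ g.1) (hN g.1) u
      one_smul := fun u => by
        induction u using Submodule.Quotient.induction_on with
        | H u => exact congrArg Submodule.Quotient.mk (Subtype.ext rfl)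
      mul_smul := fun g h u => by
        induction u using Submodule.Quotient.induction_on with
        | H u => exact congrArg Submodule.Quotient.mk (Subtype.ext rfl) }
  obtain ⟨v₀, hv₀K, hv₀, hfix⟩ : ∃ v₀, B a v₀ = 0 ∧ v₀ ∉ F ∙ a ∧ ∀ g ∈ P, g.1 v₀ - v₀ ∈ F ∙ a := by
    have hdvd : 2 ∣ Nat.card (↥K ⧸ N) := by
      obtain ⟨u, hu⟩ : ∃ u : ↥K, u ∉ N := by
        by_contra hcon
        push Not at hcon
        have h1 : K ≤ F ∙ a := fun u hu => hcon ⟨u, hu⟩
        have h2 := Submodule.finrank_mono h1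
        have h3 := (B a).finrank_range_add_finrank_ker
        have h4 := Submodule.finrank_le (LinearMap.range (B a))
        rw [finrank_self] at h4
        rw [finrank_span_singleton ha, hK] at h2
        omega
      have h2 : addOrderOf (Submodule.Quotient.mk (p := N) u) = 2 := by
        refine addOrderOf_eq_prime ?_ fun h => hu ((Submodule.Quotient.mk_eq_zero N).1 h)
        rw [two_nsmul, add_self_vec F]
      exact h2 ▸ addOrderOf_dvd_natCard _
    haveI : Finite (↥K ⧸ N) := Finite.of_surjective _ (Submodule.mkQ_surjective N)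
    obtain ⟨q, hq, hq0⟩ := hP.exists_fixed_point_of_prime_dvd_card_of_fixed_point (↥K ⧸ N) hdvd (a := 0)
      (fun g => LinearMap.map_zero _)
    obtain ⟨u, rfl⟩ := Submodule.mkQ_surjective N q
    refine ⟨u, (hmem _).1 u.2, fun h => hq0 ((Submodule.Quotient.mk_eq_zero N).2 h).symm, fun g hg => ?_⟩
    exact (Submodule.Quotient.eq N).1 (hq ⟨g, hg⟩)
  -- the stabiliser is transitive
  have move : ∀ v w, B a v = 0 → B a w = 0 → B v w ≠ 0 → ∃ g : ↥H, g.1 v = w := by
    intro v w hv hw hvw
    have hvw' : B a (v + w) = 0 := by rw [map_add, hv, hw, add_zero]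
    have h0 : B (v + w) (0 : V) = 0 := map_zero _
    refine ⟨⟨rEquiv hB h0 (B v w)⁻¹, (hH _).2 ⟨rmap_iso hB h0 _, ?_⟩⟩, ?_⟩
    · rw [rEquiv_apply, rmap, hvw']; simp
    · show rEquiv hB h0 (B v w)⁻¹ v = w
      rw [rEquiv_apply, rmap, map_add (B v), hB.self, zero_add, inv_mul_cancel₀ hvw, one_smul, smul_zero, map_zero,
        zero_smul, add_zero, add_zero, ← add_assoc, add_self_vec F, zero_add]
  have hcent : ∀ v, B a v = 0 → x.1 v - v ∈ F ∙ a := by
    intro v hv
    by_cases hm : v ∈ F ∙ a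
    · obtain ⟨r, rfl⟩ := Submodule.mem_span_singleton.1 hm
      rw [map_smul, hga x, sub_self]
      exact Submodule.zero_mem _
    obtain ⟨z, hz, hz1, hz2⟩ : ∃ z, B a z = 0 ∧ B v₀ z ≠ 0 ∧ B v z ≠ 0 := by
      obtain ⟨z₁, h1, h1'⟩ := exists_sep hB hv₀ 1
      obtain ⟨z₂, h2, h2'⟩ := exists_sep hB hm 1
      have e1 : B a z₁ = 0 := (symm hB a z₁).trans (h1 a (Submodule.mem_span_singleton_self a))
      have e2 : B a z₂ = 0 := (symm hB a z₂).trans (h2 a (Submodule.mem_span_singleton_self a))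
      rw [symm hB] at h1' h2'
      by_cases c1 : B v z₁ = 0
      · by_cases c2 : B v₀ z₂ = 0
        · exact ⟨z₁ + z₂, by rw [map_add, e1, e2, add_zero], by rw [map_add, h1', c2, add_zero]; exact one_ne_zero,
            by rw [map_add, c1, h2', zero_add]; exact one_ne_zero⟩
        · exact ⟨z₂, e2, c2, by rw [h2']; exact one_ne_zero⟩
      · exact ⟨z₁, e1, by rw [h1']; exact one_ne_zero, c1⟩
    obtain ⟨g₁, hg₁⟩ := move v₀ z hv₀K hz hz1
    obtain ⟨g₂, hg₂⟩ := move z v hz hv (by rw [symm hB]; exact hz2)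
    obtain ⟨g, hgd⟩ : ∃ g, g = g₂ * g₁ := ⟨_, rfl⟩
    have hgv : g.1 v₀ = v := by
      rw [hgd]
      show g₂.1 (g₁.1 v₀) = v
      rw [hg₁, hg₂]
    have hn := Subgroup.Normal.conj_mem (inferInstance : P.Normal) x hx g⁻¹
    rw [inv_inv] at hn
    obtain ⟨r, hr⟩ := Submodule.mem_span_singleton.1 (hfix _ hn)
    refine Submodule.mem_span_singleton.2 ⟨r, ?_⟩
    have e : g.1 (r • a) = g.1 ((g⁻¹ * x * g).1 v₀ - v₀) := by rw [hr]
    rw [map_smul, hga g, map_sub, hgv] at e
    rw [e]
    show g.1 (g.1.symm (x.1 (g.1 v₀))) - v = _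
    rw [g.1.apply_symm_apply, hgv]
  obtain ⟨b, -, hb⟩ := exists_sep hB (U := ⊥) (x := a) (by rwa [Submodule.mem_bot]) 1
  have hab : B a b = 1 := (symm hB a b).trans hb
  have hiso := ((hH x.1).1 x.2).1
  obtain ⟨w, hwdef⟩ : ∃ w, w = x.1 b + B (x.1 b) b • a + B (x.1 b) a • b := ⟨_, rfl⟩
  have hxba : B (x.1 b) a = 1 := by
    conv_lhs => rw [← hga x, hiso, hb]
  have hw := split hB hab (x.1 b)
  rw [← hwdef] at hw
  have hwa : B a w = 0 := hw.1
  have hwb : B b w = 0 := hw.2
  have hxb : x.1 b = b + w + B (x.1 b) b • a := by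
    rw [hwdef, hxba, one_smul]
    linear_combination (norm := module) -(add_self_vec F b) - add_self_vec F (B (x.1 b) b • a)
  refine ⟨w, B (x.1 b) b, hwa, fun u => ?_⟩
  obtain ⟨u', hu'⟩ : ∃ u', u' = u + B u a • b := ⟨_, rfl⟩
  have hu'a : B a u' = 0 := by
    rw [hu', map_add, map_smul, hab, smul_eq_mul, mul_one, symm hB u a, CharTwo.add_self_eq_zero]
  obtain ⟨l, hl⟩ := Submodule.mem_span_singleton.1 (hcent u' hu'a)
  have hxu' : x.1 u' = u' + l • a := by rw [hl]; abel
  have hlv : l = B u' w := by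
    have h := hiso u' b
    rw [hxu', hxb] at h
    simp only [map_add, map_smul, LinearMap.add_apply, LinearMap.smul_apply, smul_eq_mul, hB.self, hab, hwa,
      symm hB u' a, hu'a] at h
    linear_combination h - (B u' w) * (CharTwo.two_eq_zero (R := F))
  have e : u = u' + B u a • b := by
    rw [hu', add_assoc, add_self_vec F, add_zero]
  have hu'w : B u' w = B u w := by
    rw [hu', map_add, LinearMap.add_apply, map_smul, LinearMap.smul_apply, hwb, smul_zero, add_zero]
  conv_lhs => rw [e, map_add, map_smul, hxu', hxb, hlv, hu'w, hu']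
  rw [rmap]
  linear_combination (norm := module) add_self_vec F (B u a • b)

end Cfsg.Agent.Classical.SpRad
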