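/-
Irreducible subgroups of the symplectic group in characteristic two containing a transvection-free radical section.
-/
import Cfsg.Prelude.Def_Classical
import Cfsg.Agent.Lib.Classical.SpRadical.Orth
import Cfsg.Agent.Lib.Classical.SpRadical.Four
import Cfsg.Agent.Lib.Classical.SpRadical.Radical
import Cfsg.Agent.Lib.Classical.SpOvergroup
import Cfsg.Agent.Lib.Classical.OrthCharTwoSp

set_option autoImplicit false
set_option linter.unusedSectionVars false

namespace Cfsg.Agent.Classical.SpRad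

open Module Matrix QuadraticMap
open Cfsg.Agent.Classical

variable {F : Type*} [Field F] {n : ℕ}

local notation "Vn" => Fin n ⊕ Fin n → F
local notation "Gn" => GL (Fin n ⊕ Fin n) F

/-- Matrices as linear equivalences. -/
noncomputable def glEquiv : Gn ≃* (Vn ≃ₗ[F] Vn) :=
  Matrix.GeneralLinearGroup.toLin.trans (LinearMap.GeneralLinearGroup.generalLinearEquiv F Vn)

theorem glEquiv_apply (g : Gn) (u : Vn) :
    glEquiv g u = (g : Matrix (Fin n ⊕ Fin n) (Fin n ⊕ Fin n) F) *ᵥ u := rfl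

/-- The alternating form of the statement. -/
def bform : Vn →ₗ[F] Vn →ₗ[F] F :=
  LinearMap.mk₂ F (fun u v => ∑ i : Fin n, (u (Sum.inl i) * v (Sum.inr i) + u (Sum.inr i) * v (Sum.inl i)))
    (fun u u' v => by
      rw [← Finset.sum_add_distrib]; exact Finset.sum_congr rfl fun i _ => by simp only [Pi.add_apply]; ring)
    (fun c u v => by
      rw [smul_eq_mul, Finset.mul_sum]
      exact Finset.sum_congr rfl fun i _ => by simp only [Pi.smul_apply, smul_eq_mul]; ring)
    (fun u v v' => by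
      rw [← Finset.sum_add_distrib]; exact Finset.sum_congr rfl fun i _ => by simp only [Pi.add_apply]; ring)
    (fun c u v => by
      rw [smul_eq_mul, Finset.mul_sum]
      exact Finset.sum_congr rfl fun i _ => by simp only [Pi.smul_apply, smul_eq_mul]; ring)

theorem bform_apply (u v : Vn) :
    bform u v = ∑ i : Fin n, (u (Sum.inl i) * v (Sum.inr i) + u (Sum.inr i) * v (Sum.inl i)) := rfl

variable [CharP F 2]

theorem bform_alt : SpCount.IsAltND (bform (F := F) (n := n)) := by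
  refine ⟨fun v => ?_, fun v hv => funext fun k => ?_⟩
  · rw [bform_apply]
    refine Finset.sum_eq_zero fun i _ => ?_
    rw [mul_comm (v (Sum.inr i)), CharTwo.add_self_eq_zero]
  · rcases k with k | k
    · have := hv (Pi.single (.inr k) 1)
      simpa [bform_apply, Pi.single_apply] using this
    · have := hv (Pi.single (.inl k) 1)
      simpa [bform_apply, Pi.single_apply] using this

theorem sympForm_eq (u v : Vn) : sympForm n F u v = bform u v := by
  rw [bform_apply]
  exact OrthTwo.J_apply u v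

theorem mem_preserving {g : Gn} :
    g ∈ Cfsg.preserving (Units.coeHom (Matrix (Fin n ⊕ Fin n) (Fin n ⊕ Fin n) F))
        (fun u v : Vn => ∑ i : Fin n, (u (Sum.inl i) * v (Sum.inr i) + u (Sum.inr i) * v (Sum.inl i))) ↔
      ∀ u v, bform (glEquiv g u) (glEquiv g v) = bform u v := Iff.rfl

/-- The classification. -/
theorem main [Fintype F] (hn : 2 ≤ n) (a : Vn) (ha : a ≠ 0) (X : Subgroup Gn)
    (hXG : X ≤ Cfsg.preserving (Units.coeHom (Matrix (Fin n ⊕ Fin n) (Fin n ⊕ Fin n) F))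
      (fun u v : Vn => ∑ i : Fin n, (u (Sum.inl i) * v (Sum.inr i) + u (Sum.inr i) * v (Sum.inl i))))
    (hXO : ∀ H : Subgroup Gn,
      (∀ g : Gn, g ∈ H ↔ (g ∈ Cfsg.preserving (Units.coeHom (Matrix (Fin n ⊕ Fin n) (Fin n ⊕ Fin n) F))
        (fun u v : Vn => ∑ i : Fin n, (u (Sum.inl i) * v (Sum.inr i) + u (Sum.inr i) * v (Sum.inl i))) ∧
        Matrix.mulVec (g : Matrix (Fin n ⊕ Fin n) (Fin n ⊕ Fin n) F) a = a)) →
      X ≤ (Cfsg.pCore 2 ↥H).map H.subtype)
    (hcard : Nat.card ↥X = Fintype.card F ^ (2 * n - 2))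
    (hntv : ∀ x ∈ X, ((x : Matrix (Fin n ⊕ Fin n) (Fin n ⊕ Fin n) F) - 1).rank ≠ 1)
    (L : Subgroup Gn) (hXL : X ≤ L)
    (hLG : L ≤ Cfsg.preserving (Units.coeHom (Matrix (Fin n ⊕ Fin n) (Fin n ⊕ Fin n) F))
      (fun u v : Vn => ∑ i : Fin n, (u (Sum.inl i) * v (Sum.inr i) + u (Sum.inr i) * v (Sum.inl i))))
    (hirr : ∀ W : Submodule F Vn, (∀ g ∈ L, ∀ w ∈ W,
      Matrix.mulVec (g : Matrix (Fin n ⊕ Fin n) (Fin n ⊕ Fin n) F) w ∈ W) → W = ⊥ ∨ W = ⊤) :
    L = Cfsg.preserving (Units.coeHom (Matrix (Fin n ⊕ Fin n) (Fin n ⊕ Fin n) F))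
      (fun u v : Vn => ∑ i : Fin n, (u (Sum.inl i) * v (Sum.inr i) + u (Sum.inr i) * v (Sum.inl i))) ∨
    (∃ Q : QuadraticForm F Vn, (∀ u v, QuadraticMap.polar ⇑Q u v =
        (fun u v : Vn => ∑ i : Fin n, (u (Sum.inl i) * v (Sum.inr i) + u (Sum.inr i) * v (Sum.inl i))) u v) ∧
      (L = Cfsg.isometryGroup F ⇑Q ∨
        ∀ g : Gn, g ∈ L ↔ (g ∈ Cfsg.isometryGroup F ⇑Q ∧
          Even ((g : Matrix (Fin n ⊕ Fin n) (Fin n ⊕ Fin n) F) - 1).rank))) ∨
    (Fintype.card F = 2 ∧ n = 2 ∧ (Nonempty (↥L ≃* ↥(alternatingGroup (Fin 6))) ∨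
      Nonempty (↥L ≃* Equiv.Perm (Fin 5)))) := by
  classical
  haveI : Fact (Nat.Prime 2) := ⟨Nat.prime_two⟩
  have hB := bform_alt (F := F) (n := n)
  have hdim : finrank F Vn = 2 * n := by
    rw [Module.finrank_fintype_fun_eq_card, Fintype.card_sum, Fintype.card_fin]; omega
  haveI : Finite (Vn ≃ₗ[F] Vn) := Finite.of_injective (fun g => (g : Vn → Vn)) DFunLike.coe_injective
  let H' : Subgroup (Vn ≃ₗ[F] Vn) :=
    { carrier := {g | (∀ x y, bform (g x) (g y) = bform x y) ∧ g a = a}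
      one_mem' := ⟨fun x y => rfl, rfl⟩
      mul_mem' := fun {g h} hg hh => ⟨fun x y => by rw [LinearEquiv.mul_apply, LinearEquiv.mul_apply, hg.1, hh.1],
        by rw [LinearEquiv.mul_apply, hh.2, hg.2]⟩
      inv_mem' := fun {g} hg => ⟨fun x y => by
          rw [← hg.1, show g (g⁻¹ x) = x from g.apply_symm_apply x, show g (g⁻¹ y) = y from g.apply_symm_apply y],
        by conv_lhs => rw [← hg.2]
           exact g.symm_apply_apply a⟩ }
  let H : Subgroup Gn := H'.comap glEquiv.toMonoidHom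
  have hH : ∀ g : Gn, g ∈ H ↔ (g ∈ Cfsg.preserving (Units.coeHom (Matrix (Fin n ⊕ Fin n) (Fin n ⊕ Fin n) F))
      (fun u v : Vn => ∑ i : Fin n, (u (Sum.inl i) * v (Sum.inr i) + u (Sum.inr i) * v (Sum.inl i))) ∧
      Matrix.mulVec (g : Matrix (Fin n ⊕ Fin n) (Fin n ⊕ Fin n) F) a = a) := fun g => Iff.rfl
  have hX := hXO H hH
  let eH : ↥H →* ↥H' := glEquiv.toMonoidHom.subgroupComap H'
  have heH : Function.Surjective eH :=
    MonoidHom.subgroupComap_surjective_of_surjective glEquiv.toMonoidHom H' glEquiv.surjective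
  haveI : (Cfsg.pCore 2 ↥H).Normal := Cfsg.Agent.Solv.pCore_normal 2
  haveI hPn : ((Cfsg.pCore 2 ↥H).map eH).Normal := Subgroup.Normal.map inferInstance eH heH
  have hPp : IsPGroup 2 ↥((Cfsg.pCore 2 ↥H).map eH) := (Cfsg.Agent.Solv.pCore_isPGroup 2).map eH
  have hform : ∀ x ∈ X, ∃ v t, bform a v = 0 ∧ ∀ u, glEquiv x u = rmap bform a v t u := by
    intro x hx
    obtain ⟨y, hy, hyx⟩ := Subgroup.mem_map.1 (hX hx)
    obtain ⟨v, t, hv, h⟩ := exists_rmap hB ha H' (fun g => Iff.rfl) (by omega) _ hPp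
      (Subgroup.mem_map_of_mem eH hy)
    refine ⟨v, t, hv, fun u => ?_⟩
    rw [← hyx]
    exact h u
  let L' : Subgroup (Vn ≃ₗ[F] Vn) := L.map glEquiv.toMonoidHom
  let X' : Subgroup (Vn ≃ₗ[F] Vn) := X.map glEquiv.toMonoidHom
  have hX'1 : ∀ s, In bform X' a 0 s → s = 0 := by
    rintro s ⟨g, hg, hg'⟩
    obtain ⟨x, hx, rfl⟩ := Subgroup.mem_map.1 hg
    by_contra hs
    refine hntv x hx ?_
    obtain ⟨z, -, hz⟩ := exists_sep hB (U := ⊥) (x := a) (by rwa [Submodule.mem_bot]) 1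
    have he : ((x : Matrix (Fin n ⊕ Fin n) (Fin n ⊕ Fin n) F) - 1).mulVecLin =
        LinearMap.smulRight (s • bform.flip a) a := LinearMap.ext fun u => by
      rw [Matrix.mulVecLin_apply, Matrix.sub_mulVec, Matrix.one_mulVec, ← glEquiv_apply]
      show glEquiv.toMonoidHom x u - u = (s * bform u a) • a
      rw [hg', rmap]
      simp
    rw [Matrix.rank, he, show LinearMap.range (LinearMap.smulRight (s • bform.flip a) a) = F ∙ a from ?_,
      finrank_span_singleton ha]
    refine le_antisymm ?_ ((Submodule.span_singleton_le_iff_mem _ _).2 ⟨s⁻¹ • z, ?_⟩)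
    · rintro _ ⟨u, rfl⟩
      exact Submodule.mem_span_singleton.2 ⟨_, rfl⟩
    · rw [LinearMap.smulRight_apply, map_smul, LinearMap.smul_apply, LinearMap.flip_apply, hz, smul_eq_mul, smul_eq_mul,
        mul_one, inv_mul_cancel₀ hs, one_smul]
  obtain ⟨b, -, hb⟩ := exists_sep hB (U := ⊥) (x := a) (by rwa [Submodule.mem_bot]) 1
  have hab : bform a b = 1 := (symm hB a b).trans hb
  -- unique normal form
  have hX'u : ∀ v t v' t', bform a v = 0 → bform a v' = 0 → In bform X' a v t → In bform X' a v' t' →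
      v + v' ∈ F ∙ a → t + t' + bform v v' = 0 := by
    intro v t v' t' hv hv' h h' hm
    obtain ⟨r, hr⟩ := Submodule.mem_span_singleton.1 hm
    have := h.mul hB h' hv hv'
    rw [← hr, ← zero_add (r • a), in_shift_iff] at this
    exact hX'1 _ this
  have hsurj : ∀ v, bform a v = 0 → ∃ t, In bform X' a v t := by
    intro v hv
    choose V₀ T₀ hV₀ hT₀ using hform
    let π : Vn → Vn := fun u => u + bform u b • a + bform u a • b
    let θ : ↥X → ↥(Wp bform a b) := fun x => ⟨π (V₀ x.1 x.2), split hB hab _⟩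
    have hθ : Function.Injective θ := by
      intro x y hxy
      have e : π (V₀ x.1 x.2) = π (V₀ y.1 y.2) := congrArg Subtype.val hxy
      simp only [π, (symm hB _ a).trans (hV₀ x.1 x.2), (symm hB _ a).trans (hV₀ y.1 y.2), zero_smul, add_zero] at e
      have hm : V₀ x.1 x.2 + V₀ y.1 y.2 ∈ F ∙ a := Submodule.mem_span_singleton.2
        ⟨bform (V₀ x.1 x.2) b + bform (V₀ y.1 y.2) b, by
          linear_combination (norm := module) e + add_self_vec F (bform (V₀ y.1 y.2) b • a) -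
            add_self_vec F (V₀ x.1 x.2)⟩
      have ix : In bform X' a (V₀ x.1 x.2) (T₀ x.1 x.2) := ⟨_, Subgroup.mem_map_of_mem _ x.2, hT₀ x.1 x.2⟩
      have iy : In bform X' a (V₀ y.1 y.2) (T₀ y.1 y.2) := ⟨_, Subgroup.mem_map_of_mem _ y.2, hT₀ y.1 y.2⟩
      have h0 := hX'u _ _ _ _ (hV₀ x.1 x.2) (hV₀ y.1 y.2) ix iy hm
      refine Subtype.ext ?_
      have hxy' : glEquiv (x.1 * y.1) = (1 : Vn ≃ₗ[F] Vn) := LinearEquiv.ext fun u => by
        rw [map_mul, LinearEquiv.mul_apply, hT₀ y.1 y.2, hT₀ x.1 x.2, rmap_comp hB (hV₀ x.1 x.2) (hV₀ y.1 y.2), h0]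
        obtain ⟨r, hr⟩ := Submodule.mem_span_singleton.1 hm
        rw [← hr, ← zero_add (r • a), rmap_shift]
        simp [rmap]
      have hyy' : glEquiv (y.1 * y.1) = (1 : Vn ≃ₗ[F] Vn) := LinearEquiv.ext fun u => by
        rw [map_mul, LinearEquiv.mul_apply, hT₀ y.1 y.2, hT₀ y.1 y.2, rmap_comp hB (hV₀ y.1 y.2) (hV₀ y.1 y.2),
          CharTwo.add_self_eq_zero (T₀ y.1 y.2), hB.self, add_self_vec F]
        simp [rmap]
      exact mul_right_cancel (glEquiv.injective (hxy'.trans hyy'.symm))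
    have hWc : Nat.card ↥(Wp bform a b) = Fintype.card F ^ (2 * n - 2) := by
      rw [Module.natCard_eq_pow_finrank (K := F), Nat.card_eq_fintype_card]
      congr 1
      have h : finrank F Vn = 2 + finrank F ↥(Wp bform a b) :=
        SpCount.finrank_comp hB (p := (a, b)) hb
      omega
    obtain ⟨x, hx⟩ := ((Nat.bijective_iff_injective_and_card θ).2 ⟨hθ, hcard.trans hWc.symm⟩).2
      ⟨π v, split hB hab v⟩
    have e : π (V₀ x.1 x.2) = π v := congrArg Subtype.val hx
    simp only [π, (symm hB _ a).trans (hV₀ x.1 x.2), (symm hB _ a).trans hv, zero_smul, add_zero] at e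
    refine ⟨T₀ x.1 x.2, ?_⟩
    have ix : In bform X' a (V₀ x.1 x.2) (T₀ x.1 x.2) := ⟨_, Subgroup.mem_map_of_mem _ x.2, hT₀ x.1 x.2⟩
    rw [← in_shift_iff (r := bform v b), ← e, in_shift_iff]
    exact ix
  choose! f hf using hsurj
  have hfull : Full bform X' a := by
    refine ⟨f, fun v w hv hw => ?_, fun r => ?_, hf⟩
    · have hvw : bform a (v + w) = 0 := by rw [map_add, hv, hw, add_zero]
      have h := hX'u _ _ _ _ hvw hvw (hf _ hvw) ((hf v hv).mul hB (hf w hw) hv hw)
        (by rw [add_self_vec F]; exact Submodule.zero_mem _)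
      rw [hB.self, add_zero] at h
      exact CharTwo.add_eq_zero.1 h
    · refine hX'1 _ ?_
      have hr : bform a (r • a) = 0 := by rw [map_smul, hB.self, smul_zero]
      have h := hf _ hr
      rw [← zero_add (r • a), in_shift_iff] at h
      rwa [zero_add] at h
  have hX'L : X' ≤ L' := Subgroup.map_mono hXL
  have S : Setup (bform (F := F) (n := n)) L' :=
    { alt := hB
      pres := fun g hg => by
        obtain ⟨k, hk, rfl⟩ := Subgroup.mem_map.1 hg
        exact mem_preserving.1 (hLG hk)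
      irr := fun W hW => hirr W fun g hg w hw => hW _ (Subgroup.mem_map_of_mem _ hg) w hw
      start := ⟨a, ha, by
        obtain ⟨f, h1, h2, h3⟩ := hfull
        refine ⟨f, h1, h2, fun v hv => ?_⟩
        obtain ⟨g, hg, hg'⟩ := h3 v hv
        exact ⟨g, hX'L hg, hg'⟩⟩
      dim := by omega }
  have hmemL : ∀ g : Gn, glEquiv g ∈ L' → g ∈ L := fun g hg => by
    obtain ⟨k, hk, hk'⟩ := Subgroup.mem_map.1 hg
    rwa [← glEquiv.injective hk']
  by_cases hN : NoTrans (bform (F := F) (n := n)) L'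
  swap
  · -- transvections
    simp only [NoTrans, not_forall] at hN
    obtain ⟨c, hc0, hc, t, ht, ht0⟩ := hN
    have hall := S.all_trans hc0 hc ht0 ht
    refine Or.inl (le_antisymm hLG fun g hg => ?_)
    refine SpOver.spGL_le (fun v s k hk => hmemL k ?_) (show g ∈ spGL n F from fun u v => ?_)
    · obtain ⟨m, hm, hm'⟩ := hall v s
      rwa [show glEquiv k = m from LinearEquiv.ext fun u => by
        rw [hm', glEquiv_apply, hk, rmap, sympForm_eq]; simp]
    · rw [sympForm_eq, sympForm_eq]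
      exact hg u v
  by_cases hG : Good (bform (F := F) (n := n)) L'
  · -- an invariant form
    obtain ⟨Q, hQ1, hQ2, hQ3⟩ := exists_form hN hG S
    have hQ : OCount.PND Q := fun v hv => hB.nondeg v fun w => by rw [← hQ1]; exact hv w
    refine Or.inr (Or.inl ⟨Q, hQ1, ?_⟩)
    have hsub : ∀ s ∈ siegelSet Q, s ∈ L'.subgroupOf (ORefl.Iso Q) := by
      rintro s ⟨e, v, he, hv, hse⟩
      rw [Subgroup.mem_subgroupOf]
      by_cases he0 : e = 0
      · rw [show (s : Vn ≃ₗ[F] Vn) = 1 from LinearEquiv.ext fun u => by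
          rw [hse, ORefl.siegel_apply, he0]; simp]
        exact one_mem _
      obtain ⟨g, hg, hg'⟩ := hQ3 e v he0 he ((hQ1 e v).symm.trans hv)
      rwa [show (s : Vn ≃ₗ[F] Vn) = g from LinearEquiv.ext fun u => by
        rw [hse, ORefl.siegel_apply, hg', rmap, hQ1, hQ1, symm hB e u, symm hB v u, sub_eq_add_neg, ← neg_smul,
          CharTwo.neg_eq]
        module]
    have hiso : ∀ g : Gn, g ∈ Cfsg.isometryGroup F ⇑Q ↔ glEquiv g ∈ ORefl.Iso Q :=
      fun g => ⟨fun h x => h x x, fun h x _ => h x⟩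
    have hrank : ∀ g : Gn, ((g : Matrix (Fin n ⊕ Fin n) (Fin n ⊕ Fin n) F) - 1).rank =
        finrank F (LinearMap.range ((glEquiv g : Vn →ₗ[F] Vn) - 1)) := by
      intro g
      rw [Matrix.rank]
      have he : ((g : Matrix (Fin n ⊕ Fin n) (Fin n ⊕ Fin n) F) - 1).mulVecLin =
          (glEquiv g : Vn →ₗ[F] Vn) - 1 := LinearMap.ext fun u => by
        rw [Matrix.mulVecLin_apply, Matrix.sub_mulVec, Matrix.one_mulVec]; rfl
      rw [he]
    have hLO : ∀ g ∈ L, glEquiv g ∈ ORefl.Iso Q := fun g hg x => hQ2 _ (Subgroup.mem_map_of_mem _ hg) x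
    rcases iso_cases hQ (by omega) (L'.subgroupOf (ORefl.Iso Q)) hsub with h | h
    · refine Or.inl (le_antisymm (fun g hg => (hiso g).2 (hLO g hg)) fun g hg => hmemL g ?_)
      have hm := Subgroup.mem_top (⟨glEquiv g, (hiso g).1 hg⟩ : ↥(ORefl.Iso Q))
      rw [← h] at hm
      exact Subgroup.mem_subgroupOf.1 hm
    · refine Or.inr fun g => ⟨fun hg => ⟨(hiso g).2 (hLO g hg), ?_⟩, fun ⟨hg, hev⟩ => hmemL g ?_⟩
      · rw [hrank]
        exact (h ⟨glEquiv g, hLO g hg⟩).1 (Subgroup.mem_subgroupOf.2 (Subgroup.mem_map_of_mem _ hg))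
      · rw [hrank] at hev
        exact Subgroup.mem_subgroupOf.1 ((h ⟨glEquiv g, (hiso g).1 hg⟩).2 hev)
  -- the exception
  have hq : Nat.card F = 2 := by_contra fun h => hG (good_of_card hB S.pres hN h)
  have hn2 : n = 2 := by_contra fun h => hG (good_of_dim hB S.pres (by omega))
  rcases S.four hN hq (by omega) hG with h | h | h
  · exact Or.inl (le_antisymm hLG fun g hg => hmemL g (h _ (mem_preserving.1 hg)))
  · exact Or.inr (Or.inr ⟨by rw [← Nat.card_eq_fintype_card]; exact hq, hn2,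
      Or.inl (h.map fun e => (glEquiv.subgroupMap L).trans e)⟩)
  · exact Or.inr (Or.inr ⟨by rw [← Nat.card_eq_fintype_card]; exact hq, hn2,
      Or.inr (h.map fun e => (glEquiv.subgroupMap L).trans e)⟩)

end Cfsg.Agent.Classical.SpRad
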